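import Mathlib

/-!
Descent of flatness along an injective family of Artinian local rings.
-/

open TensorProduct

universe u

namespace Groth.Agent.H06FlatVal

/-- Freeness over a local ring with nilpotent maximal ideal is detected by a jointly injective family of
such rings. -/
theorem flat_of_jointly_injective {S P : Type u} [CommRing S] [IsLocalRing S] [AddCommGroup P] [Module S P]
    (hS : IsNilpotent (IsLocalRing.maximalIdeal S)) {ι : Type u} (T : ι → Type u) [∀ i, CommRing (T i)]
    [∀ i, IsLocalRing (T i)] [∀ i, Algebra S (T i)] [∀ i, IsLocalHom (algebraMap S (T i))]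
    (hinj : ∀ a : S, (∀ i, algebraMap S (T i) a = 0) → a = 0)
    (h : ∀ i, Module.Flat (T i) (T i ⊗[S] P)) : Module.Flat S P := by
  obtain ⟨σ, b⟩ := Module.Free.exists_basis (R := (IsLocalRing.ResidueField S)) (M := (IsLocalRing.ResidueField S) ⊗[S] P)
  have hsurj : Function.Surjective (TensorProduct.mk S (IsLocalRing.ResidueField S) P 1) :=
    TensorProduct.mk_surjective S P (IsLocalRing.ResidueField S) Ideal.Quotient.mk_surjective
  choose v hv using fun j => hsurj (b j)
  have hli : LinearIndependent S v := by
    rw [linearIndependent_iff']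
    intro s a ha j hj
    refine hinj _ fun i => ?_
    have hb : LinearIndependent (IsLocalRing.ResidueField (T i)) (TensorProduct.mk (T i) (IsLocalRing.ResidueField (T i)) ((T i) ⊗[S] P) 1 ∘ fun j => (1 : (T i)) ⊗ₜ[S] v j) := by
      haveI : IsScalarTower S (IsLocalRing.ResidueField S) (IsLocalRing.ResidueField (T i)) := IsScalarTower.of_algebraMap_eq fun _ => rfl
      let e₁ : (IsLocalRing.ResidueField (T i)) ⊗[(IsLocalRing.ResidueField S)] ((IsLocalRing.ResidueField S) ⊗[S] P) ≃ₗ[(IsLocalRing.ResidueField (T i))] (IsLocalRing.ResidueField (T i)) ⊗[S] P := TensorProduct.AlgebraTensorModule.cancelBaseChange S (IsLocalRing.ResidueField S) (IsLocalRing.ResidueField (T i)) (IsLocalRing.ResidueField (T i)) P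
      let e₂ : (IsLocalRing.ResidueField (T i)) ⊗[(T i)] ((T i) ⊗[S] P) ≃ₗ[(IsLocalRing.ResidueField (T i))] (IsLocalRing.ResidueField (T i)) ⊗[S] P := TensorProduct.AlgebraTensorModule.cancelBaseChange S (T i) (IsLocalRing.ResidueField (T i)) (IsLocalRing.ResidueField (T i)) P
      let bb := (b.baseChange (IsLocalRing.ResidueField (T i))).map (e₁.trans e₂.symm)
      have : (TensorProduct.mk (T i) (IsLocalRing.ResidueField (T i)) ((T i) ⊗[S] P) 1 ∘ fun j => (1 : (T i)) ⊗ₜ[S] v j) = bb := by
        funext j
        show (1 : (IsLocalRing.ResidueField (T i))) ⊗ₜ[(T i)] ((1 : (T i)) ⊗ₜ[S] v j) = e₂.symm (e₁ ((b.baseChange (IsLocalRing.ResidueField (T i))) j))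
        rw [Module.Basis.baseChange_apply, ← hv]
        show _ = e₂.symm (e₁ ((1 : (IsLocalRing.ResidueField (T i))) ⊗ₜ[(IsLocalRing.ResidueField S)] ((1 : (IsLocalRing.ResidueField S)) ⊗ₜ[S] v j)))
        rw [TensorProduct.AlgebraTensorModule.cancelBaseChange_tmul, one_smul,
          TensorProduct.AlgebraTensorModule.cancelBaseChange_symm_tmul]
      rw [this]
      exact bb.linearIndependent
    haveI := h i
    have h' := linearIndependent_iff'.mp (Module.IsLocalRing.linearIndependent_of_flat (R := (T i)) (M := (T i) ⊗[S] P) _ hb) s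
      (fun j => algebraMap S (T i) (a j)) ?_ j hj
    · exact h'
    · calc ∑ j ∈ s, algebraMap S (T i) (a j) • ((1 : (T i)) ⊗ₜ[S] v j)
          = (1 : (T i)) ⊗ₜ[S] (∑ j ∈ s, a j • v j) := by
            rw [TensorProduct.tmul_sum]
            exact Finset.sum_congr rfl fun j _ => by rw [algebraMap_smul, ← TensorProduct.tmul_smul]
        _ = 0 := by rw [ha, TensorProduct.tmul_zero]
  have hspan : ⊤ ≤ Submodule.span S (Set.range v) := by
    set N := Submodule.span S (Set.range v)
    have hstep : ⊤ ≤ N ⊔ IsLocalRing.maximalIdeal S • (⊤ : Submodule S P) := by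
      intro x _
      have hx : (TensorProduct.mk S (IsLocalRing.ResidueField S) P 1) x ∈ (Submodule.span S (Set.range v)).map (TensorProduct.mk S (IsLocalRing.ResidueField S) P 1) := by
        rw [Submodule.map_span, ← Set.range_comp, show TensorProduct.mk S (IsLocalRing.ResidueField S) P 1 ∘ v = b from funext hv]
        have : (TensorProduct.mk S (IsLocalRing.ResidueField S) P 1) x ∈ Submodule.span (IsLocalRing.ResidueField S) (Set.range b) := b.mem_span _
        rw [← Submodule.restrictScalars_mem S, Submodule.restrictScalars_span S (IsLocalRing.ResidueField S) Ideal.Quotient.mk_surjective] at this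
        exact this
      obtain ⟨y, hy, hyx⟩ := hx
      refine Submodule.mem_sup.mpr ⟨y, hy, x - y, ?_, add_sub_cancel _ _⟩
      have h0 : (TensorProduct.quotTensorEquivQuotSMul P (IsLocalRing.maximalIdeal S))
          ((Ideal.Quotient.mk _ 1) ⊗ₜ[S] (x - y)) = 0 := by
        have hxy : (TensorProduct.mk S (IsLocalRing.ResidueField S) P 1) (x - y) = 0 := by rw [map_sub, hyx, sub_self]
        exact (congrArg (TensorProduct.quotTensorEquivQuotSMul P (IsLocalRing.maximalIdeal S)) hxy).trans (map_zero _)
      rw [TensorProduct.quotTensorEquivQuotSMul_mk_tmul, one_smul, Submodule.Quotient.mk_eq_zero] at h0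
      exact h0
    obtain ⟨n, hn⟩ := hS
    have : ∀ m, ⊤ ≤ N ⊔ IsLocalRing.maximalIdeal S ^ m • (⊤ : Submodule S P) := by
      intro m
      induction m with
      | zero => rw [pow_zero, Ideal.one_eq_top, Submodule.top_smul]; exact le_sup_right
      | succ m ih =>
        refine ih.trans (sup_le le_sup_left ?_)
        refine (Submodule.smul_mono le_rfl hstep).trans ?_
        rw [Submodule.smul_sup, ← Submodule.mul_smul, ← pow_succ]
        exact sup_le (le_sup_of_le_left Submodule.smul_le_right) le_sup_right
    simpa [hn, Submodule.zero_eq_bot] using this n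
  haveI : Module.Free S P := .of_basis (Module.Basis.mk hli hspan)
  infer_instance

end Groth.Agent.H06FlatVal
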