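import Groth.Agent.H06FlatVal.Torsion

/-!
Flatness from flatness modulo a nilpotent ideal and torsion kernels.
-/

open TensorProduct

universe u

namespace Groth.Agent.H06FlatVal

open Groth.Agent.H7Flat

variable {A C M : Type u} [CommRing A] [CommRing C] [Algebra A C] [AddCommGroup M] [Module A M] [Module C M]
  [IsScalarTower A C M] [IsNoetherianRing A] [IsNoetherianRing C] [IsLocalRing A] [IsLocalRing C]
  [IsLocalHom (algebraMap A C)] [Module.Finite C M]

theorem range_lTensor_smul_le {P : Type u} [AddCommGroup P] [Module A P] (J : Ideal A) :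
    ∀ x ∈ LinearMap.range ((J • (⊤ : Submodule A P)).subtype.lTensor M),
      x ∈ J.map (algebraMap A C) • (⊤ : Submodule C (M ⊗[A] P)) := by
  rintro _ ⟨y, rfl⟩
  induction y using TensorProduct.induction_on with
  | zero => simp
  | add a b ha hb => rw [map_add]; exact add_mem ha hb
  | tmul m q =>
    obtain ⟨q, hq⟩ := q
    rw [LinearMap.lTensor_tmul, Submodule.subtype_apply]
    refine Submodule.smul_induction_on (p := fun w => m ⊗ₜ[A] w ∈ J.map (algebraMap A C) • (⊤ : Submodule C (M ⊗[A] P))) hq ?_ ?_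
    · intro a ha w _
      rw [TensorProduct.tmul_smul, ← algebraMap_smul C a (m ⊗ₜ[A] w)]
      exact Submodule.smul_mem_smul (Ideal.mem_map_of_mem _ ha) trivial
    · intro a b ha hb
      rw [TensorProduct.tmul_add]
      exact add_mem ha hb

include C in
/-- Torsion-freeness spreads from modules killed by `N` to modules killed by a power of `N`. -/
theorem eq_zero_of_smul_eq_zero (N : Ideal A) (S : Submonoid A)
    (h1 : ∀ (k : ℕ) (P P' : Type u) [AddCommGroup P] [Module A P] [AddCommGroup P'] [Module A P']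
      (f : P →ₗ[A] P'), Function.Injective f → (∀ a ∈ N ⊔ IsLocalRing.maximalIdeal A ^ k, ∀ q : P', a • q = 0) →
      Function.Injective (f.lTensor M))
    (h2 : ∀ (P P' : Type u) [AddCommGroup P] [Module A P] [AddCommGroup P'] [Module A P'] (f : P →ₗ[A] P'),
      Function.Injective f → ∀ x, f.lTensor M x = 0 → ∃ s ∈ S, s • x = 0)
    (r : ℕ) : ∀ (P : Type u) [AddCommGroup P] [Module A P] [Module.Finite A P],
      N ^ r • (⊤ : Submodule A P) = ⊥ → (∀ s ∈ S, ∀ q : P, s • q = 0 → q = 0) →
      ∀ s ∈ S, ∀ x : M ⊗[A] P, s • x = 0 → x = 0 := by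
  induction r with
  | zero =>
    intro P _ _ _ hP _ s _ x _
    rw [pow_zero, Ideal.one_eq_top, Submodule.top_smul] at hP
    haveI : Subsingleton P := (Submodule.subsingleton_iff A).mp (subsingleton_of_top_le_bot hP.le)
    haveI : Subsingleton (M ⊗[A] P) := ⟨fun a b => by
      have : ∀ z : M ⊗[A] P, z = 0 := fun z => by
        induction z using TensorProduct.induction_on with
        | zero => rfl
        | tmul m q => rw [Subsingleton.elim q 0, TensorProduct.tmul_zero]
        | add a b ha hb => rw [ha, hb, add_zero]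
      rw [this a, this b]⟩
    exact Subsingleton.elim _ _
  | succ r ih =>
    intro P _ _ _ hP hPS s hs x hx
    let P₁ : Submodule A P :=
      { carrier := {q | ∃ t ∈ S, t • q ∈ N • (⊤ : Submodule A P)}
        zero_mem' := ⟨1, S.one_mem, by simp⟩
        add_mem' := by
          rintro a b ⟨t, ht, hta⟩ ⟨t', ht', htb⟩
          refine ⟨t * t', S.mul_mem ht ht', ?_⟩
          rw [smul_add]
          refine add_mem ?_ ?_
          · rw [mul_comm, mul_smul]; exact Submodule.smul_mem _ _ hta
          · rw [mul_smul]; exact Submodule.smul_mem _ _ htb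
        smul_mem' := by
          rintro c a ⟨t, ht, hta⟩
          exact ⟨t, ht, by rw [smul_comm]; exact Submodule.smul_mem _ _ hta⟩ }
    have hP₁ : N ^ r • (⊤ : Submodule A P₁) = ⊥ := by
      rw [eq_bot_iff, Submodule.smul_le]
      rintro a ha ⟨q, t, ht, htq⟩ -
      refine Subtype.ext (hPS t ht _ ?_)
      show t • (a • q) = 0
      rw [smul_comm, ← Submodule.mem_bot A, ← hP, pow_succ, Submodule.mul_smul]
      exact Submodule.smul_mem_smul ha htq
    have hN : ∀ a ∈ N, ∀ q : P ⧸ P₁, a • q = 0 := by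
      intro a ha q
      obtain ⟨q, rfl⟩ := Submodule.Quotient.mk_surjective _ q
      rw [← Submodule.Quotient.mk_smul, Submodule.Quotient.mk_eq_zero]
      exact ⟨1, S.one_mem, by rw [one_smul]; exact Submodule.smul_mem_smul ha trivial⟩
    have hsinj : Function.Injective (LinearMap.lsmul A (P ⧸ P₁) s) := by
      rw [injective_iff_map_eq_zero]
      intro q hq
      obtain ⟨q, rfl⟩ := Submodule.Quotient.mk_surjective _ q
      rw [LinearMap.lsmul_apply, ← Submodule.Quotient.mk_smul, Submodule.Quotient.mk_eq_zero] at hq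
      obtain ⟨t, ht, htq⟩ := hq
      rw [Submodule.Quotient.mk_eq_zero]
      exact ⟨t * s, S.mul_mem ht hs, by rw [mul_smul]; exact htq⟩
    set y := P₁.mkQ.lTensor M x with hy
    have hy0 : y = 0 := by
      have hsy : (LinearMap.lsmul A (P ⧸ P₁) s).lTensor M y = 0 := by
        have h : (LinearMap.lsmul A (P ⧸ P₁) s).lTensor M = s • LinearMap.id := by
          ext m q
          simp [TensorProduct.smul_tmul']
        rw [h, LinearMap.smul_apply, LinearMap.id_apply, hy, ← map_smul, hx, map_zero]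
      haveI := finite_tensor (R := A) (S := C) (M := M) (N := P ⧸ P₁)
      suffices y ∈ (⨅ k : ℕ, (IsLocalRing.maximalIdeal A).map (algebraMap A C) ^ k • ⊤ : Submodule C (M ⊗[A] (P ⧸ P₁))) by
        rwa [Ideal.iInf_pow_smul_eq_bot_of_isLocalRing _ (ne_top_of_le_ne_top (IsLocalRing.maximalIdeal.isMaximal C).ne_top
          (((IsLocalRing.local_hom_TFAE (algebraMap A C)).out 0 2).mp ‹_›)), Submodule.mem_bot] at this
      refine (Submodule.mem_iInf _).mpr fun k => ?_
      obtain ⟨k₀, hk₀⟩ := Ideal.exists_pow_inf_eq_pow_smul (IsLocalRing.maximalIdeal A)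
        (LinearMap.range (LinearMap.lsmul A (P ⧸ P₁) s))
      let Q₀ : Submodule A (P ⧸ P₁) := IsLocalRing.maximalIdeal A ^ (k + k₀) • ⊤
      let Q₁ : Submodule A (P ⧸ P₁) := Q₀.comap (LinearMap.lsmul A (P ⧸ P₁) s)
      have hQ₁ : Q₁ ≤ IsLocalRing.maximalIdeal A ^ k • ⊤ := by
        intro q hq
        have h : s • q ∈ IsLocalRing.maximalIdeal A ^ (k + k₀) • ⊤ ⊓ LinearMap.range (LinearMap.lsmul A (P ⧸ P₁) s) :=
          ⟨hq, q, rfl⟩
        rw [hk₀ _ le_add_self, Nat.add_sub_cancel] at h
        have h' : s • q ∈ Submodule.map (LinearMap.lsmul A (P ⧸ P₁) s) (IsLocalRing.maximalIdeal A ^ k • ⊤) := by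
          rw [Submodule.map_smul'', Submodule.map_top]
          exact (Submodule.smul_mono le_rfl inf_le_right) h
        obtain ⟨q', hq', he⟩ := h'
        exact hsinj he ▸ hq'
      let φ : (P ⧸ P₁) ⧸ Q₁ →ₗ[A] (P ⧸ P₁) ⧸ Q₀ := Q₁.mapQ Q₀ (LinearMap.lsmul A (P ⧸ P₁) s) le_rfl
      have hφ : Function.Injective φ := by
        rw [← LinearMap.ker_eq_bot]
        show LinearMap.ker (Q₁.mapQ Q₀ _ _) = ⊥
        rw [Submodule.mapQ, Submodule.ker_liftQ, LinearMap.ker_comp, Submodule.ker_mkQ, Submodule.mkQ_map_self]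
      have hzero : Q₁.mkQ.lTensor M y = 0 := by
        refine (h1 (k + k₀) _ _ φ hφ fun a ha q => ?_) ?_
        · obtain ⟨q, rfl⟩ := Submodule.Quotient.mk_surjective _ q
          obtain ⟨a₁, ha₁, a₂, ha₂, rfl⟩ := Submodule.mem_sup.mp ha
          rw [add_smul, ← Submodule.Quotient.mk_smul, ← Submodule.Quotient.mk_smul, hN a₁ ha₁, Submodule.Quotient.mk_zero,
            zero_add, Submodule.Quotient.mk_eq_zero]
          exact Submodule.smul_mem_smul ha₂ trivial
        · rw [map_zero, ← LinearMap.lTensor_comp_apply,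
            show φ ∘ₗ Q₁.mkQ = Q₀.mkQ ∘ₗ LinearMap.lsmul A (P ⧸ P₁) s from Q₁.mapQ_mkQ _ _,
            LinearMap.lTensor_comp_apply, hsy, map_zero]
      obtain ⟨w, hw⟩ := (lTensor_exact M (LinearMap.exact_subtype_mkQ Q₁) (Submodule.mkQ_surjective Q₁) y).mp hzero
      have hmem : y ∈ LinearMap.range ((IsLocalRing.maximalIdeal A ^ k • (⊤ : Submodule A (P ⧸ P₁))).subtype.lTensor M) := by
        refine ⟨(Submodule.inclusion hQ₁).lTensor M w, ?_⟩
        rw [← LinearMap.lTensor_comp_apply, Submodule.subtype_comp_inclusion, hw]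
      have := range_lTensor_smul_le (C := C) _ y hmem
      rwa [Ideal.map_pow] at this
    obtain ⟨z, hz⟩ := (lTensor_exact M (LinearMap.exact_subtype_mkQ P₁) (Submodule.mkQ_surjective P₁) x).mp hy0
    obtain ⟨t, ht, htz⟩ := h2 _ _ P₁.subtype Subtype.val_injective (s • z) (by rw [map_smul, hz, hx])
    haveI : Module.Finite A P₁ := Module.Finite.iff_fg.mpr (IsNoetherian.noetherian P₁)
    rw [← hz, ih P₁ hP₁ (fun s' hs' q hq => Subtype.ext (hPS s' hs' _ (congrArg Subtype.val hq))) (t * s)
      (S.mul_mem ht hs) z (by rw [mul_smul]; exact htz), map_zero]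

include C in
/-- Flatness from flatness modulo a nilpotent ideal and its saturation. -/
theorem flat_of_nilpotent_of_torsion (N : Ideal A) (hN : IsNilpotent N) (S : Submonoid A)
    (hS : ∀ s ∈ S, ∀ a : A, s * a = 0 → a = 0)
    (h1 : ∀ (k : ℕ) (P P' : Type u) [AddCommGroup P] [Module A P] [AddCommGroup P'] [Module A P']
      (f : P →ₗ[A] P'), Function.Injective f → (∀ a ∈ N ⊔ IsLocalRing.maximalIdeal A ^ k, ∀ q : P', a • q = 0) →
      Function.Injective (f.lTensor M))
    (h2 : ∀ (P P' : Type u) [AddCommGroup P] [Module A P] [AddCommGroup P'] [Module A P'] (f : P →ₗ[A] P'),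
      Function.Injective f → ∀ x, f.lTensor M x = 0 → ∃ s ∈ S, s • x = 0) :
    Module.Flat A M := by
  obtain ⟨r, hr⟩ := hN
  rw [Module.Flat.iff_lTensor_injective']
  intro J
  rw [injective_iff_map_eq_zero]
  intro x hx
  obtain ⟨s, hs, hsx⟩ := h2 _ _ J.subtype Subtype.val_injective x hx
  haveI : Module.Finite A J := Module.Finite.iff_fg.mpr (IsNoetherian.noetherian J)
  refine eq_zero_of_smul_eq_zero (C := C) N S h1 h2 r J ?_ (fun s hs q hq => Subtype.ext ?_) s hs x hsx
  · rw [hr, Submodule.zero_eq_bot, Submodule.bot_smul]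
  · exact hS s hs q (congrArg Subtype.val hq)

end Groth.Agent.H06FlatVal
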