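import Groth.Agent.H06FlatVal.Separation
import Groth.Agent.H06FlatVal.Artin
import Groth.Agent.H24Adic.CompletionNoetherian

/-!
Reduced quotient of the completion: truncated discrete valuation rings detect flatness on small quotients.
-/

open TensorProduct

universe u

namespace Groth.Agent.H06FlatVal

open IsLocalRing

variable (R : Type u) [CommRing R] [IsNoetherianRing R] [IsLocalRing R]

local notation "Â" => AdicCompletion (maximalIdeal R) R

/-- The completion modulo a power of the maximal ideal comes from the ring. -/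
theorem exists_sub_algebraMap_mem (k : ℕ) (a : Â) :
    ∃ r : R, a - algebraMap R Â r ∈ maximalIdeal Â ^ k := by
  obtain ⟨r, hr⟩ := Submodule.Quotient.mk_surjective _ (AdicCompletion.eval (maximalIdeal R) R k a)
  refine ⟨r, ?_⟩
  rw [AdicCompletion.maximalIdeal_eq_map, ← Ideal.map_pow]
  have : a - algebraMap R Â r ∈ maximalIdeal R ^ k • (⊤ : Submodule R Â) := by
    rw [AdicCompletion.pow_smul_top_eq_ker_eval (IsNoetherian.noetherian (maximalIdeal R)), LinearMap.mem_ker, map_sub, ← hr, sub_eq_zero]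
    rfl
  rwa [Ideal.smul_top_eq_map, Submodule.restrictScalars_mem] at this

theorem pow_le_comap (k : ℕ) : maximalIdeal R ^ k ≤ (maximalIdeal Â ^ k).comap (algebraMap R Â) := by
  rw [AdicCompletion.maximalIdeal_eq_map, ← Ideal.map_pow]
  exact Ideal.le_comap_map

variable [_root_.IsReduced R]

set_option backward.isDefEq.respectTransparency false in
/-- Ideals inside `N + m^k` on whose quotients flatness follows from the truncated valuation rings. -/
theorem exists_ideal_flat (hR : ¬ IsField R) {M : Type u} [AddCommGroup M] [Module R M]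
    (h : ∀ (D : Type u) [CommRing D] [IsDomain D] [IsDiscreteValuationRing D] [Algebra R D] [IsLocalHom (algebraMap R D)],
      (∀ d : D, ∃ p : Polynomial R, p.Monic ∧ p.eval₂ (algebraMap R D) d ∈ maximalIdeal D) →
      ∀ n, 0 < n → Module.Flat (D ⧸ maximalIdeal D ^ n) ((D ⧸ maximalIdeal D ^ n) ⊗[R] M))
    (k : ℕ) :
    ∃ J : Ideal R, J ≤ (nilradical Â ⊔ maximalIdeal Â ^ k).comap (algebraMap R Â) ∧
      (J ≠ ⊤ → Module.Flat (R ⧸ J) ((R ⧸ J) ⊗[R] M)) := by
  classical
  haveI : IsNoetherianRing Â := H24Adic.isNoetherianRing_adicCompletion _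
  let N := nilradical Â
  have hN : N ≠ ⊤ := by
    intro e
    have h1 : (1 : Â) ∈ N := e ▸ trivial
    obtain ⟨n, hn⟩ := mem_nilradical.mp h1
    exact one_ne_zero ((one_pow n).symm.trans hn)
  haveI : Nontrivial (Â ⧸ N) := Ideal.Quotient.nontrivial_iff.mpr hN
  haveI : IsLocalRing (Â ⧸ N) := IsLocalRing.of_surjective' (Ideal.Quotient.mk N) Ideal.Quotient.mk_surjective
  haveI : IsLocalHom (Ideal.Quotient.mk N) := IsLocalHom.of_surjective _ Ideal.Quotient.mk_surjective
  haveI : _root_.IsReduced (Â ⧸ N) := (Ideal.isRadical_iff_quotient_reduced N).mp (Ideal.radical_isRadical ⊥)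
  have hmap : (maximalIdeal Â).map (algebraMap Â (Â ⧸ N)) = maximalIdeal (Â ⧸ N) :=
    IsLocalRing.eq_maximalIdeal (Ideal.IsMaximal.map_of_surjective_of_ker_le Ideal.Quotient.mk_surjective
      ((Ideal.mk_ker (I := N)).le.trans (le_maximalIdeal hN)))
  haveI : IsAdicComplete (maximalIdeal (Â ⧸ N)) (Â ⧸ N) := by
    rw [← hmap]
    exact (IsAdicComplete.map_algebraMap_iff _ _).mpr (H24Adic.isAdicComplete_of_finite (I := maximalIdeal Â) (M := Â ⧸ N))
  have hA : ¬ IsField (Â ⧸ N) := by
    intro hf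
    have hmN : maximalIdeal Â ≤ N := by
      intro a ha
      have : Ideal.Quotient.mk N a ∈ maximalIdeal (Â ⧸ N) := fun hu => ha (IsUnit.of_map _ a hu)
      rw [(IsLocalRing.isField_iff_maximalIdeal_eq.mp hf), Ideal.mem_bot] at this
      exact Ideal.Quotient.eq_zero_iff_mem.mp this
    refine hR (IsLocalRing.isField_iff_maximalIdeal_eq.mpr (eq_bot_iff.mpr fun r hr => ?_))
    have hra : algebraMap R Â r ∈ maximalIdeal Â := by
      rw [AdicCompletion.maximalIdeal_eq_map]
      exact Ideal.mem_map_of_mem _ hr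
    obtain ⟨m, hm⟩ := mem_nilradical.mp (hmN hra)
    rw [← map_pow] at hm
    have hinj : Function.Injective (algebraMap R Â) := by
      haveI : Module.FaithfullyFlat R Â := Module.FaithfullyFlat.of_flat_of_isLocalHom
      exact FaithfulSMul.algebraMap_injective R Â
    exact Ideal.mem_bot.mpr (eq_zero_of_pow_eq_zero (hinj (hm.trans (map_zero _).symm)))
  obtain ⟨ι, _, D, _, _, _, φ, e, hφ, he, hle⟩ := exists_finite_dvr_family hA k
  let ψ : ∀ i, R →+* D i := fun i => (φ i).comp ((Ideal.Quotient.mk N).comp (algebraMap R Â))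
  let J : Ideal R := ⨅ i, (maximalIdeal (D i) ^ e i).comap (ψ i)
  refine ⟨J, ?_, fun hJ => ?_⟩
  · intro r hr
    have h1 : Ideal.Quotient.mk N (algebraMap R Â r) ∈ maximalIdeal (Â ⧸ N) ^ k :=
      hle ((Submodule.mem_iInf _).mpr fun i => (Submodule.mem_iInf _).mp hr i)
    rw [← hmap, ← Ideal.map_pow, Ideal.Quotient.algebraMap_eq] at h1
    have h2 : algebraMap R Â r ∈ Ideal.comap (Ideal.Quotient.mk N) ((maximalIdeal Â ^ k).map (Ideal.Quotient.mk N)) := h1
    rw [Ideal.comap_map_of_surjective _ Ideal.Quotient.mk_surjective, ← RingHom.ker_eq_comap_bot, Ideal.mk_ker, sup_comm] at h2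
    exact h2
  haveI : Nontrivial (R ⧸ J) := Ideal.Quotient.nontrivial_iff.mpr hJ
  haveI : IsLocalRing (R ⧸ J) := IsLocalRing.of_surjective' (Ideal.Quotient.mk J) Ideal.Quotient.mk_surjective
  letI : ∀ i, Algebra R (D i) := fun i => (ψ i).toAlgebra
  haveI hloc : ∀ i, IsLocalHom (algebraMap R (D i)) := fun i => by
    haveI := (hφ i).1
    haveI : IsLocalHom ((Ideal.Quotient.mk N).comp (algebraMap R Â)) := RingHom.isLocalHom_comp _ _
    exact RingHom.isLocalHom_comp _ _
  let T : ι → Type u := fun i => D i ⧸ maximalIdeal (D i) ^ e i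
  haveI : ∀ i, Nontrivial (T i) := fun i => Ideal.Quotient.nontrivial_iff.mpr
    (ne_top_of_le_ne_top (maximalIdeal.isMaximal (D i)).ne_top (Ideal.pow_le_self (he i).ne'))
  haveI : ∀ i, IsLocalRing (T i) := fun i => IsLocalRing.of_surjective' (Ideal.Quotient.mk _) Ideal.Quotient.mk_surjective
  letI : ∀ i, Algebra (R ⧸ J) (T i) := fun i => (Ideal.Quotient.lift J ((Ideal.Quotient.mk _).comp (algebraMap R (D i)))
    (fun r hr => Ideal.Quotient.eq_zero_iff_mem.mpr ((Submodule.mem_iInf _).mp hr i))).toAlgebra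
  haveI : ∀ i, IsScalarTower R (R ⧸ J) (T i) := fun i => IsScalarTower.of_algebraMap_eq fun _ => rfl
  haveI : ∀ i, IsLocalHom (algebraMap (R ⧸ J) (T i)) := fun i => ⟨fun a ha => by
    obtain ⟨r, rfl⟩ := Ideal.Quotient.mk_surjective a
    haveI : IsLocalHom (Ideal.Quotient.mk (maximalIdeal (D i) ^ e i)) :=
      IsLocalHom.of_surjective _ Ideal.Quotient.mk_surjective
    exact (IsUnit.of_map (algebraMap R (D i)) r (IsUnit.of_map (Ideal.Quotient.mk (maximalIdeal (D i) ^ e i)) _ ha)).map _⟩
  refine flat_of_jointly_injective ?_ T (fun a ha => ?_) (fun i => ?_)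
  · obtain ⟨m, hm⟩ : ∃ m, maximalIdeal R ^ m ≤ J := by
      haveI : Fintype ι := Fintype.ofFinite ι
      refine ⟨∑ i, e i, le_iInf fun i => ?_⟩
      refine (Ideal.pow_le_pow_right (Finset.single_le_sum (fun j _ => Nat.zero_le (e j)) (Finset.mem_univ i))).trans ?_
      rw [← Ideal.map_le_iff_le_comap, Ideal.map_pow]
      exact Ideal.pow_right_mono (((IsLocalRing.local_hom_TFAE (algebraMap R (D i))).out 0 2).mp (hloc i)) _
    refine ⟨m, ?_⟩
    rw [← IsLocalRing.eq_maximalIdeal (Ideal.IsMaximal.map_of_surjective_of_ker_le (m := maximalIdeal R) (f := Ideal.Quotient.mk J)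
        Ideal.Quotient.mk_surjective ((Ideal.mk_ker (I := J)).le.trans (le_maximalIdeal hJ))), ← Ideal.map_pow,
      Submodule.zero_eq_bot, Ideal.map_eq_bot_iff_le_ker, Ideal.mk_ker]
    exact hm
  · obtain ⟨r, rfl⟩ := Ideal.Quotient.mk_surjective a
    exact Ideal.Quotient.eq_zero_iff_mem.mpr ((Submodule.mem_iInf _).mpr fun i => (Ideal.Quotient.eq_zero_iff_mem (I := maximalIdeal (D i) ^ e i)).mp (ha i))
  · haveI := h (D i) (fun d => ?_) (e i) (he i)
    · exact Module.Flat.of_linearEquiv (TensorProduct.AlgebraTensorModule.cancelBaseChange R (R ⧸ J) (T i) (T i) M)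
    · haveI := (hφ i).1
      obtain ⟨p, hp, hpd⟩ := (hφ i).2 d
      let σ : R →+* ResidueField (Â ⧸ N) := (residue (Â ⧸ N)).comp ((Ideal.Quotient.mk N).comp (algebraMap R Â))
      have hσ : Function.Surjective σ := by
        intro z
        obtain ⟨w, rfl⟩ := residue_surjective z
        obtain ⟨a, rfl⟩ := Ideal.Quotient.mk_surjective w
        obtain ⟨r, hr⟩ := exists_sub_algebraMap_mem R 1 a
        refine ⟨r, ?_⟩
        symm
        show residue _ (Ideal.Quotient.mk N a) = residue _ (Ideal.Quotient.mk N (algebraMap R Â r))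
        rw [← sub_eq_zero, ← map_sub, ← map_sub, IsLocalRing.residue_eq_zero_iff]
        rw [pow_one] at hr
        exact fun hu => hr (IsUnit.of_map _ _ hu)
      obtain ⟨p', hp', -, hp'm⟩ := Polynomial.lifts_and_degree_eq_and_monic
        (Polynomial.map_surjective _ hσ (p.map (residue (Â ⧸ N)))) (hp.map _)
      refine ⟨p', hp'm, ?_⟩
      rw [← IsLocalRing.residue_eq_zero_iff] at hpd ⊢
      rw [← hpd, Polynomial.hom_eval₂, Polynomial.hom_eval₂]
      have e1 : (residue (D i)).comp (algebraMap R (D i)) = (ResidueField.map (φ i)).comp σ := RingHom.ext fun _ => rfl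
      have e2 : (residue (D i)).comp (φ i) = (ResidueField.map (φ i)).comp (residue (Â ⧸ N)) := RingHom.ext fun _ => rfl
      rw [e1, e2, ← Polynomial.eval₂_map, ← Polynomial.eval₂_map, hp']

end Groth.Agent.H06FlatVal
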