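import Groth.Agent.H06FlatVal.Core
import Groth.Agent.H06FlatVal.Quotients

/-!
The valuative criterion of flatness over reduced Noetherian local rings.
-/

open TensorProduct

universe u

namespace Groth.Agent.H06FlatVal

open IsLocalRing Groth.Agent.H7Flat

/-- Tensoring a kernel with a flat module preserves being killed by elements of a submonoid. -/
theorem exists_smul_eq_zero_of_flat {B : Type u} [CommRing B] {F X Y : Type u} [AddCommGroup F] [Module B F]
    [AddCommGroup X] [Module B X] [AddCommGroup Y] [Module B Y] [Module.Flat B F] (g : X →ₗ[B] Y) (S : Submonoid B)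
    (hg : ∀ x, g x = 0 → ∃ s ∈ S, s • x = 0) (z : F ⊗[B] X) (hz : g.lTensor F z = 0) : ∃ s ∈ S, s • z = 0 := by
  have hex : Function.Exact ((LinearMap.ker g).subtype.lTensor F) (g.lTensor F) :=
    Module.Flat.lTensor_exact F (LinearMap.exact_subtype_ker_map g)
  obtain ⟨w, rfl⟩ := (hex z).mp hz
  clear hz
  induction w using TensorProduct.induction_on with
  | zero => exact ⟨1, S.one_mem, by simp⟩
  | tmul a q =>
    obtain ⟨s, hs, h0⟩ := hg q.1 q.2
    refine ⟨s, hs, ?_⟩
    rw [LinearMap.lTensor_tmul, ← TensorProduct.tmul_smul]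
    show a ⊗ₜ[B] (s • q.1) = 0
    rw [h0, TensorProduct.tmul_zero]
  | add a b ha hb =>
    obtain ⟨s, hs, h1⟩ := ha
    obtain ⟨t, ht, h2⟩ := hb
    exact ⟨s * t, S.mul_mem hs ht, by
      rw [map_add, smul_add, mul_comm, mul_smul, h1, smul_zero, zero_add, mul_comm, mul_smul, h2, smul_zero]⟩

/-- Kernels of tensored injections between modules over a quotient where `M` is flat. -/
theorem lTensor_injective_of_killed {R M : Type u} [CommRing R] [AddCommGroup M] [Module R M] (J : Ideal R)
    [Module.Flat (R ⧸ J) ((R ⧸ J) ⊗[R] M)] {P P' : Type u} [AddCommGroup P] [Module R P] [AddCommGroup P'] [Module R P']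
    (f : P →ₗ[R] P') (hf : Function.Injective f) (hJ : ∀ r ∈ J, ∀ q : P', r • q = 0) :
    Function.Injective (f.lTensor M) := by
  have h1 : Module.IsTorsionBySet R P' J := fun q r => hJ _ r.2 q
  have h2 : Module.IsTorsionBySet R P J := fun q r => hf (by rw [map_zero, map_smul]; exact hJ _ r.2 _)
  letI := h1.module
  letI := h2.module
  haveI : IsScalarTower R (R ⧸ J) P' := h1.isScalarTower
  haveI : IsScalarTower R (R ⧸ J) P := h2.isScalarTower
  let f' : P →ₗ[R ⧸ J] P' :=
    { toFun := f
      map_add' := map_add f
      map_smul' := fun c q => by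
        obtain ⟨r, rfl⟩ := Ideal.Quotient.mk_surjective c
        exact map_smul f r q }
  have h := lTensor_injective_of_flat_quotient (M := M) J f' hf
  exact h

section Abstract

variable {R A B C' : Type u} [CommRing R] [CommRing A] [CommRing B] [CommRing C'] [Algebra R A] [Algebra A B]
  [Algebra B C'] [Algebra A C'] [IsScalarTower A B C']

set_option backward.isDefEq.respectTransparency false in
/-- Killed kernels pass to a flat `B`-algebra. -/
theorem exists_smul_eq_zero_tensor [Module.Flat B C'] {X : Type u} [AddCommGroup X] [Module A X] [Module B X]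
    [IsScalarTower A B X] {P P' : Type u} [AddCommGroup P] [Module A P] [AddCommGroup P'] [Module A P']
    (f : P →ₗ[A] P') (S : Submonoid A) (hX : ∀ x : X ⊗[A] P, f.lTensor X x = 0 → ∃ s ∈ S, s • x = 0)
    (z : (C' ⊗[B] X) ⊗[A] P) (hz : f.lTensor (C' ⊗[B] X) z = 0) : ∃ s ∈ S, s • z = 0 := by
  let e₁ := TensorProduct.AlgebraTensorModule.assoc A B B C' X P
  let e₂ := TensorProduct.AlgebraTensorModule.assoc A B B C' X P'
  let g : X ⊗[A] P →ₗ[B] X ⊗[A] P' := TensorProduct.AlgebraTensorModule.map (LinearMap.id : X →ₗ[B] X) f
  have hnat : ∀ w, e₂ (f.lTensor (C' ⊗[B] X) w) = g.lTensor C' (e₁ w) := by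
    intro w
    induction w using TensorProduct.induction_on with
    | zero => simp
    | add u v hu hv => rw [map_add, map_add, hu, hv, map_add, map_add]
    | tmul m q =>
      rw [LinearMap.lTensor_tmul]
      induction m using TensorProduct.induction_on with
      | zero => simp [TensorProduct.zero_tmul]
      | add u v hu hv => rw [TensorProduct.add_tmul, TensorProduct.add_tmul, map_add, map_add, map_add, hu, hv]
      | tmul c x => rfl
  obtain ⟨_, ⟨s, hs, rfl⟩, hsz⟩ := exists_smul_eq_zero_of_flat g (S.map (algebraMap A B)) (fun x hx => by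
    obtain ⟨s, hs, hsx⟩ := hX x hx
    exact ⟨_, ⟨s, hs, rfl⟩, by rw [algebraMap_smul]; exact hsx⟩) (e₁ z) (by rw [← hnat, hz, map_zero])
  refine ⟨s, hs, e₁.injective ?_⟩
  rw [map_zero, ← algebraMap_smul B s z, LinearEquiv.map_smul]
  exact hsz

variable {M : Type u} [AddCommGroup M] [Module R M]

set_option backward.isDefEq.respectTransparency false in
/-- Killed kernels transported along `X ≅ A ⊗ M`. -/
theorem exists_smul_eq_zero_baseChange {X : Type u} [AddCommGroup X] [Module A X] (eX : X ≃ₗ[A] A ⊗[R] M)
    {P P' : Type u} [AddCommGroup P] [Module A P] [Module R P] [IsScalarTower R A P] [AddCommGroup P'] [Module A P']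
    [Module R P'] [IsScalarTower R A P'] (f : P →ₗ[A] P') (S : Submonoid R)
    (hM : ∀ x : M ⊗[R] P, (f.restrictScalars R).lTensor M x = 0 → ∃ s ∈ S, s • x = 0)
    (x : X ⊗[A] P) (hx : f.lTensor X x = 0) : ∃ s ∈ S.map (algebraMap R A), s • x = 0 := by
  let e : ∀ (T : Type u) [AddCommGroup T] [Module A T] [Module R T] [IsScalarTower R A T], X ⊗[A] T ≃+ M ⊗[R] T :=
    fun T _ _ _ _ => (((TensorProduct.congr eX (LinearEquiv.refl A T)).trans (TensorProduct.comm A _ _)).toAddEquiv.trans
      (TensorProduct.AlgebraTensorModule.cancelBaseChange R A A T M).toAddEquiv).trans (TensorProduct.comm R T M).toAddEquiv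
  have he : ∀ (T : Type u) [AddCommGroup T] [Module A T] [Module R T] [IsScalarTower R A T] (y : X) (q : T) (a : A) (m : M),
      eX y = a ⊗ₜ[R] m → e T (y ⊗ₜ[A] q) = m ⊗ₜ[R] (a • q) := by
    intro T _ _ _ _ y q a m hy
    show TensorProduct.comm R T M (TensorProduct.AlgebraTensorModule.cancelBaseChange R A A T M (q ⊗ₜ[A] eX y)) = _
    rw [hy, TensorProduct.AlgebraTensorModule.cancelBaseChange_tmul, TensorProduct.comm_tmul]
  have hnat : ∀ w, e P' (f.lTensor X w) = (f.restrictScalars R).lTensor M (e P w) := by
    intro w
    induction w using TensorProduct.induction_on with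
    | zero => simp
    | add u v hu hv => rw [map_add, map_add, hu, hv, map_add, map_add]
    | tmul y q =>
      rw [LinearMap.lTensor_tmul, ← eX.symm_apply_apply y]
      induction eX y using TensorProduct.induction_on with
      | zero => simp [TensorProduct.zero_tmul]
      | add u v hu hv => simp only [map_add, TensorProduct.add_tmul, hu, hv]
      | tmul a m =>
        rw [he P' _ _ a m (eX.apply_symm_apply _), he P _ _ a m (eX.apply_symm_apply _), LinearMap.lTensor_tmul,
          LinearMap.restrictScalars_apply, map_smul]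
  obtain ⟨s, hs, hsx⟩ := hM (e P x) (by rw [← hnat, hx, map_zero])
  refine ⟨algebraMap R A s, ⟨s, hs, rfl⟩, (e P).injective ?_⟩
  rw [map_zero, ← hsx]
  have hsm : ∀ w, e P (algebraMap R A s • w) = s • e P w := by
    intro w
    induction w using TensorProduct.induction_on with
    | zero => simp
    | add u v hu hv => rw [smul_add, map_add, map_add, hu, hv, smul_add]
    | tmul y q =>
      rw [← eX.symm_apply_apply y, ← TensorProduct.tmul_smul]
      induction eX y using TensorProduct.induction_on with
      | zero => simp [TensorProduct.zero_tmul]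
      | add u v hu hv => simp only [map_add, TensorProduct.add_tmul, hu, hv, smul_add]
      | tmul a m =>
        rw [he P _ _ a m (eX.apply_symm_apply _), he P _ _ a m (eX.apply_symm_apply _), algebraMap_smul, smul_comm,
          TensorProduct.tmul_smul]
  exact hsm x

set_option backward.isDefEq.respectTransparency false in
/-- Descent from a flat local algebra over the completion. -/
theorem flat_of_model [_root_.IsReduced R] [IsNoetherianRing R] [IsNoetherianRing A] [IsLocalRing A]
    [Module.Flat R A] [IsNoetherianRing C'] [IsLocalRing C'] [IsLocalHom (algebraMap A C')] [Module.Flat B C']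
    {C : Type u} [CommRing C] [IsLocalRing C] [Algebra R C] [Algebra C B] [Algebra C C'] [IsScalarTower C B C']
    [Algebra R C'] [IsScalarTower R C C'] [IsScalarTower R A C'] [Module.FaithfullyFlat C C']
    [Module C M] [IsScalarTower R C M] [Module.Finite C M] [SMulCommClass A C B]
    (eX : B ⊗[C] M ≃ₗ[A] A ⊗[R] M)
    (hJ : ∀ k : ℕ, ∃ J : Ideal R, J ≤ (nilradical A ⊔ maximalIdeal A ^ k).comap (algebraMap R A) ∧
      (J ≠ ⊤ → Module.Flat (R ⧸ J) ((R ⧸ J) ⊗[R] M))) :
    Module.Flat R M := by
  haveI : SMulCommClass A B C' := inferInstance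
  haveI : Module.Finite C' (C' ⊗[B] (B ⊗[C] M)) := inferInstance
  haveI : Module.Flat A (C' ⊗[B] (B ⊗[C] M)) := by
    refine flat_of_nilpotent_of_torsion (C := C') (nilradical A) (IsNoetherianRing.isNilpotent_nilradical A)
      ((nonZeroDivisors R).map (algebraMap R A)) ?_ ?_ ?_
    · rintro _ ⟨s, hs, rfl⟩ a ha
      have hreg : IsSMulRegular A s := Module.Flat.isSMulRegular_of_isRegular (R := R) (M := A)
        (isRegular_iff_mem_nonZeroDivisors.mpr hs)
      exact hreg (by show s • a = s • (0 : A); rw [smul_zero, Algebra.smul_def]; exact ha)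
    · intro k P P' _ _ _ _ f hf hP'
      letI : Module R P := Module.compHom P (algebraMap R A)
      letI : Module R P' := Module.compHom P' (algebraMap R A)
      haveI : IsScalarTower R A P := IsScalarTower.of_algebraMap_smul fun _ _ => rfl
      haveI : IsScalarTower R A P' := IsScalarTower.of_algebraMap_smul fun _ _ => rfl
      obtain ⟨J, hJle, hflat⟩ := hJ k
      rw [injective_iff_map_eq_zero]
      intro z hz
      have hkill : ∀ r ∈ J, ∀ q : P', r • q = 0 := fun r hr q => hP' _ (hJle hr) q
      have hM : ∀ y : M ⊗[R] P, (f.restrictScalars R).lTensor M y = 0 → ∃ s ∈ (⊥ : Submonoid R), s • y = 0 := by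
        intro y hy
        refine ⟨1, rfl, ?_⟩
        rw [one_smul]
        by_cases hJt : J = ⊤
        · have hP : ∀ q : P, q = 0 := fun q => hf (by rw [map_zero, ← one_smul R (f q)]; exact hkill 1 (hJt ▸ trivial) _)
          clear hy
          induction y using TensorProduct.induction_on with
          | zero => rfl
          | tmul m q => rw [hP q, TensorProduct.tmul_zero]
          | add u v hu hv => rw [hu, hv, add_zero]
        · haveI := hflat hJt
          exact lTensor_injective_of_killed (M := M) J (f.restrictScalars R) hf hkill (by rw [hy, map_zero])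
      obtain ⟨_, ⟨s, rfl, rfl⟩, hs⟩ := exists_smul_eq_zero_tensor f _
        (fun x hx => exists_smul_eq_zero_baseChange eX f ⊥ hM x hx) z hz
      rwa [map_one, one_smul] at hs
    · intro P P' _ _ _ _ f hf z hz
      letI : Module R P := Module.compHom P (algebraMap R A)
      letI : Module R P' := Module.compHom P' (algebraMap R A)
      haveI : IsScalarTower R A P := IsScalarTower.of_algebraMap_smul fun _ _ => rfl
      haveI : IsScalarTower R A P' := IsScalarTower.of_algebraMap_smul fun _ _ => rfl
      exact exists_smul_eq_zero_tensor f _ (fun x hx => exists_smul_eq_zero_baseChange eX f (nonZeroDivisors R)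
        (fun y hy => exists_nonZeroDivisor_smul_eq_zero (f.restrictScalars R) hf y hy) x hx) z hz
  haveI : Module.Flat R (C' ⊗[B] (B ⊗[C] M)) := Module.Flat.trans R A _
  haveI : Module.Flat R (C' ⊗[C] M) := Module.Flat.of_linearEquiv
    ((TensorProduct.AlgebraTensorModule.cancelBaseChange C B C' C' M).restrictScalars R).symm
  rw [Module.Flat.iff_lTensor_injective']
  intro J
  rw [injective_iff_map_eq_zero]
  intro x hx
  refine Module.FaithfullyFlat.tensorProduct_mk_injective (A := C) (B := C') (M ⊗[R] J) ?_
  let e := TensorProduct.AlgebraTensorModule.assoc R C C C' M J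
  refine e.symm.injective ?_
  rw [map_zero, map_zero]
  refine Module.Flat.lTensor_preserves_injective_linearMap (R := R) (M := C' ⊗[C] M) J.subtype Subtype.val_injective ?_
  rw [map_zero]
  have hnat : ∀ w : M ⊗[R] J, J.subtype.lTensor (C' ⊗[C] M) (e.symm (1 ⊗ₜ[C] w)) =
      (TensorProduct.AlgebraTensorModule.assoc R C C C' M R).symm (1 ⊗ₜ[C] J.subtype.lTensor M w) := by
    intro w
    induction w using TensorProduct.induction_on with
    | zero => simp
    | add u v hu hv => simp only [TensorProduct.tmul_add, map_add, hu, hv]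
    | tmul m j => rfl
  show J.subtype.lTensor (C' ⊗[C] M) (e.symm (1 ⊗ₜ[C] x)) = 0
  rw [hnat, hx, TensorProduct.tmul_zero, map_zero]

end Abstract

attribute [local instance] Algebra.TensorProduct.rightAlgebra in
/-- Base change of a `C`-module to `C ⊗ A` is the base change to `A`. -/
theorem nonempty_baseChange_equiv (R A C M : Type u) [CommRing R] [CommRing A] [Algebra R A] [CommRing C] [Algebra R C]
    [AddCommGroup M] [Module R M] [Module C M] [IsScalarTower R C M] [SMulCommClass C A (C ⊗[R] A)] :
    Nonempty (((C ⊗[R] A) ⊗[C] M) ≃ₗ[A] A ⊗[R] M) := by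
  let eAdd : ((C ⊗[R] A) ⊗[C] M) ≃+ A ⊗[R] M :=
    ((TensorProduct.comm C (C ⊗[R] A) M).toAddEquiv.trans
      (TensorProduct.AlgebraTensorModule.cancelBaseChange R C C M A).toAddEquiv).trans (TensorProduct.comm R M A).toAddEquiv
  have heAdd : ∀ (c : C) (a : A) (m : M), eAdd ((c ⊗ₜ[R] a) ⊗ₜ[C] m) = a ⊗ₜ[R] (c • m) := fun c a m => by
    show TensorProduct.comm R M A (TensorProduct.AlgebraTensorModule.cancelBaseChange R C C M A (m ⊗ₜ[C] (c ⊗ₜ[R] a))) = _
    rw [TensorProduct.AlgebraTensorModule.cancelBaseChange_tmul, TensorProduct.comm_tmul]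
  refine ⟨?_⟩
  exact
    { eAdd with
      map_smul' := fun a x => by
        show eAdd (a • x) = a • eAdd x
        induction x using TensorProduct.induction_on with
        | zero => simp
        | add u v hu hv => rw [smul_add, map_add, map_add, hu, hv, smul_add]
        | tmul b m =>
          rw [TensorProduct.smul_tmul']
          induction b using TensorProduct.induction_on with
          | zero => simp [TensorProduct.zero_tmul]
          | add u v hu hv => rw [smul_add, TensorProduct.add_tmul, map_add, hu, hv, TensorProduct.add_tmul, map_add, smul_add]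
          | tmul c a' =>
            rw [show a • (c ⊗ₜ[R] a') = c ⊗ₜ[R] (a * a') from by
              rw [Algebra.smul_def]
              show ((1 : C) ⊗ₜ[R] a) * (c ⊗ₜ[R] a') = _
              rw [Algebra.TensorProduct.tmul_mul_tmul, one_mul]]
            rw [heAdd, heAdd, TensorProduct.smul_tmul', smul_eq_mul] }

set_option backward.isDefEq.respectTransparency false in
set_option maxHeartbeats 1000000 in
/-- Flatness of a finite module over an essentially finitely generated local algebra is detected by
discrete valuation rings with algebraic residue extensions, when the base is reduced. -/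
theorem flat_of_forall_dvr {R C M : Type u} [CommRing R] [IsNoetherianRing R] [IsLocalRing R] [_root_.IsReduced R]
    [CommRing C] [IsLocalRing C] [IsNoetherianRing C] [Algebra R C] [IsLocalHom (algebraMap R C)]
    [Algebra.EssFiniteType R C] [AddCommGroup M] [Module R M] [Module C M] [IsScalarTower R C M] [Module.Finite C M]
    (h : ∀ (D : Type u) [CommRing D] [IsDomain D] [IsDiscreteValuationRing D] [Algebra R D] [IsLocalHom (algebraMap R D)],
      (∀ d : D, ∃ p : Polynomial R, p.Monic ∧ p.eval₂ (algebraMap R D) d ∈ maximalIdeal D) →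
      ∀ n, 0 < n → Module.Flat (D ⧸ maximalIdeal D ^ n) ((D ⧸ maximalIdeal D ^ n) ⊗[R] M)) :
    Module.Flat R M := by
  classical
  by_cases hR : IsField R
  · letI := hR.toField
    infer_instance
  let A := AdicCompletion (maximalIdeal R) R
  haveI : IsNoetherianRing A := H24Adic.isNoetherianRing_adicCompletion _
  letI : Algebra A (C ⊗[R] A) := Algebra.TensorProduct.rightAlgebra
  let B := C ⊗[R] A
  haveI : IsNoetherianRing B := by
    haveI : IsNoetherianRing (A ⊗[R] C) := Algebra.EssFiniteType.isNoetherianRing A (A ⊗[R] C)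
    exact isNoetherianRing_of_ringEquiv _ (Algebra.TensorProduct.comm R A C).toRingEquiv
  let κ := ResidueField C
  let αA : A →ₐ[R] κ :=
    { toRingHom := ((ResidueField.map (algebraMap R C))).comp (AdicCompletion.evalOneₐ (maximalIdeal R)).toRingHom
      commutes' := fun r => by
        show ResidueField.map (algebraMap R C) (AdicCompletion.evalOneₐ (maximalIdeal R) (algebraMap R A r)) = _
        rw [AlgHom.commutes]
        rfl }
  let π : B →ₐ[R] κ := Algebra.TensorProduct.lift (IsScalarTower.toAlgHom R C κ) αA (fun _ _ => Commute.all _ _)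
  have hπ : Function.Surjective π := fun z => by
    obtain ⟨c, rfl⟩ := residue_surjective z
    refine ⟨c ⊗ₜ 1, ?_⟩
    rw [Algebra.TensorProduct.lift_tmul, map_one, mul_one]
    rfl
  let Q : Ideal B := RingHom.ker π.toRingHom
  haveI : Q.IsMaximal := RingHom.ker_isMaximal_of_surjective π.toRingHom hπ
  let C' := Localization.AtPrime Q
  haveI : IsLocalHom (algebraMap A C') := ⟨fun a ha => by
    by_contra hna
    have h1 : a ∈ maximalIdeal A := hna
    have h2 : (1 : C) ⊗ₜ[R] a ∈ Q := by
      show π ((1 : C) ⊗ₜ[R] a) = 0
      rw [Algebra.TensorProduct.lift_tmul, map_one, one_mul]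
      show ResidueField.map (algebraMap R C) (AdicCompletion.evalOneₐ (maximalIdeal R) a) = 0
      obtain ⟨r, hr⟩ := exists_sub_algebraMap_mem R 1 a
      rw [pow_one] at hr
      have hra : algebraMap R A r ∈ maximalIdeal A := by
        have := sub_mem h1 hr
        rwa [sub_sub_cancel] at this
      have hr' : r ∈ maximalIdeal R := fun hu => hra (hu.map _)
      have hd : AdicCompletion.evalOneₐ (maximalIdeal R) (a - algebraMap R A r) = 0 := by
        rw [AdicCompletion.maximalIdeal_eq_map] at hr
        have : Ideal.map (algebraMap R A) (maximalIdeal R) ≤ RingHom.ker (AdicCompletion.evalOneₐ (maximalIdeal R)).toRingHom := by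
          rw [Ideal.map_le_iff_le_comap]
          intro x hx
          show AdicCompletion.evalOneₐ (maximalIdeal R) (algebraMap R A x) = 0
          rw [AlgHom.commutes]
          exact Ideal.Quotient.eq_zero_iff_mem.mpr hx
        exact this hr
      rw [map_sub, sub_eq_zero, AlgHom.commutes] at hd
      rw [hd, show algebraMap R (R ⧸ maximalIdeal R) r = 0 from Ideal.Quotient.eq_zero_iff_mem.mpr hr']
      exact map_zero _
    have h3 : algebraMap B C' (algebraMap A B a) ∈ maximalIdeal C' :=
      (IsLocalization.AtPrime.to_map_mem_maximal_iff C' Q _).mpr h2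
    exact h3 (by rw [← IsScalarTower.algebraMap_apply]; exact ha)⟩
  haveI : IsLocalHom (algebraMap C C') := ⟨fun c hc => by
    by_contra hnc
    have h2 : algebraMap C B c ∈ Q := by
      show π (c ⊗ₜ[R] (1 : A)) = 0
      rw [Algebra.TensorProduct.lift_tmul, map_one, mul_one]
      exact (IsLocalRing.residue_eq_zero_iff _).mpr hnc
    have h3 : algebraMap B C' (algebraMap C B c) ∈ maximalIdeal C' :=
      (IsLocalization.AtPrime.to_map_mem_maximal_iff C' Q _).mpr h2
    exact h3 (by rw [← IsScalarTower.algebraMap_apply]; exact hc)⟩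
  haveI : Module.Flat B C' := IsLocalization.flat C' Q.primeCompl
  haveI : Module.Flat C B := inferInstanceAs (Module.Flat C (C ⊗[R] A))
  haveI : Module.Flat C C' := Module.Flat.trans C B C'
  haveI : Module.FaithfullyFlat C C' := by exact Module.FaithfullyFlat.of_flat_of_isLocalHom (A := C) (B := C')
  haveI : SMulCommClass A C B := ⟨fun a c b => by rw [Algebra.smul_def, Algebra.smul_def]; exact mul_smul_comm c (algebraMap A B a) b⟩
  haveI : SMulCommClass C A B := SMulCommClass.symm _ _ _
  let X := B ⊗[C] M
  obtain ⟨eX⟩ := nonempty_baseChange_equiv R A C M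
  exact flat_of_model (A := A) (B := B) (C' := C') eX (fun k => exists_ideal_flat R hR h k)

end Groth.Agent.H06FlatVal
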