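import Groth.Agent.H06FlatVal.Criterion
import Mathlib.RingTheory.Flat.Localization
import Mathlib.RingTheory.Localization.BaseChange

/-!
The valuative criterion of flatness for finite modules over algebras of finite type.
-/

open TensorProduct

universe u

namespace Groth.Agent.H06FlatVal

/-- Injectivity of tensored injections when the base change of the module is flat. -/
theorem lTensor_injective_of_flat_baseChange {A D M : Type u} [CommRing A] [CommRing D] [Algebra A D]
    [AddCommGroup M] [Module A M] [Module.Flat D (D ⊗[A] M)] {P P' : Type u} [AddCommGroup P] [Module A P] [Module D P]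
    [IsScalarTower A D P] [AddCommGroup P'] [Module A P'] [Module D P'] [IsScalarTower A D P'] (f : P →ₗ[D] P')
    (hf : Function.Injective f) : Function.Injective ((f.restrictScalars A).lTensor M) := by
  let e := TensorProduct.AlgebraTensorModule.cancelBaseChange A D D P M
  let e' := TensorProduct.AlgebraTensorModule.cancelBaseChange A D D P' M
  have h := Module.Flat.rTensor_preserves_injective_linearMap (M := D ⊗[A] M) f hf
  have hnat : ∀ w, (f.restrictScalars A).lTensor M (TensorProduct.comm A P M (e w)) =
      TensorProduct.comm A P' M (e' (f.rTensor (D ⊗[A] M) w)) := by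
    intro w
    induction w using TensorProduct.induction_on with
    | zero => simp
    | add u v hu hv => simp only [map_add, hu, hv]
    | tmul q m =>
      induction m using TensorProduct.induction_on with
      | zero => simp
      | add u v hu hv => simp only [map_add, TensorProduct.tmul_add, hu, hv]
      | tmul d z =>
        rw [LinearMap.rTensor_tmul, TensorProduct.AlgebraTensorModule.cancelBaseChange_tmul,
          TensorProduct.AlgebraTensorModule.cancelBaseChange_tmul, TensorProduct.comm_tmul, TensorProduct.comm_tmul,
          LinearMap.lTensor_tmul, LinearMap.restrictScalars_apply, map_smul]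
  intro u v huv
  obtain ⟨u', rfl⟩ := (TensorProduct.comm A P M).surjective u
  obtain ⟨v', rfl⟩ := (TensorProduct.comm A P M).surjective v
  obtain ⟨u'', rfl⟩ := e.surjective u'
  obtain ⟨v'', rfl⟩ := e.surjective v'
  rw [hnat, hnat] at huv
  rw [h (e'.injective ((TensorProduct.comm A P' M).injective huv))]

/-- The base change is flat when tensoring injections is injective. -/
theorem flat_baseChange_of_lTensor_injective {A D M : Type u} [CommRing A] [CommRing D] [Algebra A D]
    [AddCommGroup M] [Module A M]
    (h : ∀ J : Ideal D, Function.Injective (((J.subtype : J →ₗ[D] D).restrictScalars A).lTensor M)) :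
    Module.Flat D (D ⊗[A] M) := by
  rw [Module.Flat.iff_rTensor_injective']
  intro J
  let e := TensorProduct.AlgebraTensorModule.cancelBaseChange A D D J M
  let e' := TensorProduct.AlgebraTensorModule.cancelBaseChange A D D D M
  have hnat : ∀ w, (TensorProduct.comm A D M (e' (J.subtype.rTensor (D ⊗[A] M) w))) =
      ((J.subtype : J →ₗ[D] D).restrictScalars A).lTensor M (TensorProduct.comm A J M (e w)) := by
    intro w
    induction w using TensorProduct.induction_on with
    | zero => simp
    | add u v hu hv => simp only [map_add, hu, hv]
    | tmul q m =>
      induction m using TensorProduct.induction_on with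
      | zero => simp
      | add u v hu hv => simp only [map_add, TensorProduct.tmul_add, hu, hv]
      | tmul d z =>
        rw [LinearMap.rTensor_tmul, TensorProduct.AlgebraTensorModule.cancelBaseChange_tmul,
          TensorProduct.AlgebraTensorModule.cancelBaseChange_tmul, TensorProduct.comm_tmul, TensorProduct.comm_tmul,
          LinearMap.lTensor_tmul, LinearMap.restrictScalars_apply, map_smul]
  intro u v huv
  refine e.injective ((TensorProduct.comm A J M).injective (h J ?_))
  rw [← hnat, ← hnat, huv]

set_option backward.isDefEq.respectTransparency false in
/-- Flatness of the base change passes to localizations of the module. -/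
theorem flat_baseChange_localized {A D B C' M : Type u} [CommRing A] [CommRing D] [Algebra A D] [CommRing B] [Algebra A B]
    [CommRing C'] [Algebra B C'] [Algebra A C'] [IsScalarTower A B C'] [Module.Flat B C']
    [AddCommGroup M] [Module A M] [Module B M] [IsScalarTower A B M] [Module.Flat D (D ⊗[A] M)] :
    Module.Flat D (D ⊗[A] (C' ⊗[B] M)) := by
  refine flat_baseChange_of_lTensor_injective fun J => ?_
  rw [injective_iff_map_eq_zero]
  intro z hz
  obtain ⟨s, hs, h0⟩ := exists_smul_eq_zero_tensor (C' := C') (X := M) ((J.subtype : J →ₗ[D] D).restrictScalars A) ⊥
    (fun x hx => ⟨1, Submonoid.one_mem _, by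
      rw [one_smul]
      exact lTensor_injective_of_flat_baseChange (J.subtype : J →ₗ[D] D) Subtype.val_injective
        (hx.trans (map_zero _).symm)⟩) z hz
  rwa [Submonoid.mem_bot.mp hs, one_smul] at h0

/-- Tensoring over a localization of the base. -/
theorem flat_baseChange_of_localization {A A' D X : Type u} [CommRing A] [CommRing A'] [Algebra A A'] (S : Submonoid A)
    [IsLocalization S A'] [CommRing D] [Algebra A D] [Algebra A' D] [IsScalarTower A A' D]
    [AddCommGroup X] [Module A X] [Module A' X] [IsScalarTower A A' X] [Module.Flat D (D ⊗[A] X)] :
    Module.Flat D (D ⊗[A'] X) := by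
  refine flat_baseChange_of_lTensor_injective fun J => ?_
  let f : J →ₗ[D] D := J.subtype
  let e : ∀ (P : Type u) [AddCommGroup P] [Module A P] [Module A' P] [IsScalarTower A A' P],
      X ⊗[A'] P ≃ₗ[A'] X ⊗[A] P := fun P _ _ _ _ => IsLocalization.moduleTensorEquiv S A' X P
  have hnat : ∀ w, e D ((f.restrictScalars A').lTensor X w) = (f.restrictScalars A).lTensor X (e J w) := by
    intro w
    induction w using TensorProduct.induction_on with
    | zero => simp
    | add u v hu hv => simp only [map_add, hu, hv]
    | tmul x q => rfl
  intro u v huv
  refine (e J).injective (lTensor_injective_of_flat_baseChange (M := X) f Subtype.val_injective ?_)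
  rw [← hnat, ← hnat]
  exact congrArg _ huv

set_option backward.isDefEq.respectTransparency false in
/-- A finite module over an algebra of finite type over a reduced Noetherian ring is flat if all base changes
to discrete valuation rings are. -/
theorem flat_of_forall_dvr_global (A : Type u) [CommRing A] [_root_.IsReduced A] [IsNoetherianRing A]
    (B : Type u) [CommRing B] [Algebra A B] [Algebra.FiniteType A B]
    (M : Type u) [AddCommGroup M] [Module A M] [Module B M] [IsScalarTower A B M] [Module.Finite B M]
    (h : ∀ (R : Type u) [CommRing R] [IsDomain R] [IsDiscreteValuationRing R] [Algebra A R],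
      Module.Flat R (R ⊗[A] M)) : Module.Flat A M := by
  haveI : IsNoetherianRing B := Algebra.FiniteType.isNoetherianRing A B
  refine Module.flat_of_isLocalized_maximal (R := A) (M := M) B (fun m _ => Localization.AtPrime m ⊗[B] M)
    (fun m _ => TensorProduct.mk B (Localization.AtPrime m) M 1) fun m _ => ?_
  let C := Localization.AtPrime m
  let p := m.comap (algebraMap A B)
  let A' := Localization.AtPrime p
  letI : Algebra A' C := (Localization.localRingHom p m (algebraMap A B) rfl).toAlgebra
  haveI : IsScalarTower A A' C := IsScalarTower.of_algebraMap_eq fun a => by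
    show algebraMap A C a = Localization.localRingHom p m (algebraMap A B) rfl (algebraMap A A' a)
    rw [Localization.localRingHom_to_map, ← IsScalarTower.algebraMap_apply]
  haveI : IsLocalHom (algebraMap A' C) := Localization.isLocalHom_localRingHom p m (algebraMap A B) rfl
  haveI : _root_.IsReduced A' := inferInstance
  haveI : IsNoetherianRing A' := IsLocalization.isNoetherianRing p.primeCompl A' inferInstance
  haveI : IsNoetherianRing C := IsLocalization.isNoetherianRing m.primeCompl C inferInstance
  haveI : Algebra.EssFiniteType A C := Algebra.EssFiniteType.comp A B C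
  haveI : Algebra.EssFiniteType A' C := Algebra.EssFiniteType.of_comp A A' C
  haveI : SMulCommClass B A' C := ⟨fun b a c => by
    rw [Algebra.smul_def, Algebra.smul_def, Algebra.smul_def, Algebra.smul_def]; ring⟩
  let X := C ⊗[B] M
  haveI : Module.Flat A' X := by
    refine flat_of_forall_dvr (C := C) fun D _ _ _ _ _ _ n hn => ?_
    letI : Algebra A D := ((algebraMap A' D).comp (algebraMap A A')).toAlgebra
    haveI : IsScalarTower A A' D := IsScalarTower.of_algebraMap_eq fun _ => rfl
    haveI := h D
    let D' := D ⧸ IsLocalRing.maximalIdeal D ^ n
    haveI : Module.Flat D' (D' ⊗[D] (D ⊗[A] M)) := inferInstance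
    haveI : Module.Flat D' (D' ⊗[A] M) :=
      Module.Flat.of_linearEquiv (TensorProduct.AlgebraTensorModule.cancelBaseChange A D D' D' M).symm
    haveI : Module.Flat D' (D' ⊗[A] X) := flat_baseChange_localized
    exact flat_baseChange_of_localization p.primeCompl
  exact Module.Flat.trans A A' X

end Groth.Agent.H06FlatVal
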