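import Groth.Agent.H06EGA15.DimConst

/-!
Maximal points of fibres map to maximal points under base change.
-/

open CategoryTheory CategoryTheory.Limits AlgebraicGeometry TopologicalSpace Topology

universe u

namespace Groth.Agent.H06FlatVal

variable {X Y : Scheme.{u}} (f : X ⟶ Y) {Y' : Scheme.{u}} (k : Y' ⟶ Y)

set_option backward.isDefEq.respectTransparency false in
/-- The projection from a base change sends maximal points of fibres to maximal points of fibres. -/
theorem maximal_fst_of_maximal (z : ↥(pullback f k))
    (hz : ∀ z', pullback.snd f k z' = pullback.snd f k z → z' ⤳ z → z' = z)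
    (w : X) (hw : f w = f (pullback.fst f k z)) (hwz : w ⤳ pullback.fst f k z) : w = pullback.fst f k z := by
  let p := pullback.fst f k
  let q := pullback.snd f k
  let y' := q z
  obtain ⟨ψ, hψ, hψι⟩ : ∃ ψ : q.fiber y' ⟶ f.fiber (k y'), Flat ψ ∧ ψ ≫ f.fiberι (k y') = q.fiberι y' ≫ p := by
    refine ⟨pullback.map _ _ _ _ p (Spec.map (k.residueFieldMap y')) k
      (IsPullback.of_hasPullback f k).w.symm (by simp), ?_, ?_⟩
    · refine MorphismProperty.of_isPullback (P := @Flat)
        (isPullback_fiberToSpecResidueField_of_isPullback (IsPullback.of_hasPullback f k) y').flip ?_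
      refine (HasRingHomProperty.Spec_iff (P := @Flat)).mpr ?_
      algebraize [(k.residueFieldMap y').hom]
      exact inferInstanceAs (Module.Flat _ _)
    · exact pullback.lift_fst _ _ _
  have hpz : f.fiberι (k y') (ψ (q.asFiber z)) = p z := by
    rw [← Scheme.Hom.comp_apply, hψι, Scheme.Hom.comp_apply, q.fiberι_asFiber]
  obtain ⟨v, hv⟩ := (f.range_fiberι (k y')).ge (show w ∈ f ⁻¹' {k y'} from hw.trans (by
    rw [← Scheme.Hom.comp_apply, pullback.condition, Scheme.Hom.comp_apply]))
  have hvz : v ⤳ ψ (q.asFiber z) := (f.fiberι (k y')).isEmbedding.isInducing.specializes_iff.mp (by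
    rw [hv, hpz]; exact hwz)
  haveI := hψ
  obtain ⟨a, ha, hav⟩ := Flat.generalizingMap ψ hvz
  have := hz (q.fiberι y' a) ((q.range_fiberι y').le (Set.mem_range_self a))
    (by
      have := ha.map (q.fiberι y').continuous
      rwa [q.fiberι_asFiber] at this)
  rw [← hv, ← hav, ← Scheme.Hom.comp_apply ψ, hψι, Scheme.Hom.comp_apply, this]

end Groth.Agent.H06FlatVal
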