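import Groth.Agent.H06FlatVal.Criterion
import Groth.Agent.H06Mod.StalkBaseChange

/-!
The valuative criterion of flatness for morphisms of schemes.
-/

open CategoryTheory CategoryTheory.Limits AlgebraicGeometry TensorProduct

universe u

namespace Groth.Agent.H06FlatVal

/-- Injectivity of a tensored map of modules killed by `I`, checked on flat algebras at maximal ideals. -/
theorem lTensor_injective_of_witness {D E : Type u} [CommRing D] [CommRing E] [Algebra D E] (I : Ideal D)
    (H : ∀ Q : Ideal E, Q.IsMaximal → I.map (algebraMap D E) ≤ Q → ∃ (S' : Type u) (_ : CommRing S') (_ : Algebra E S')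
      (_ : Algebra D S') (_ : IsScalarTower D E S'), Module.Flat E S' ∧ Module.Flat D S' ∧ Q.map (algebraMap E S') ≠ ⊤)
    {P P' : Type u} [AddCommGroup P] [Module D P] [AddCommGroup P'] [Module D P'] (f : P →ₗ[D] P')
    (hf : Function.Injective f) (hI : ∀ a ∈ I, ∀ q : P, a • q = 0) : Function.Injective (f.lTensor E) := by
  rw [injective_iff_map_eq_zero]
  intro x hx
  by_contra hne
  let an : Ideal E := LinearMap.ker (LinearMap.toSpanSingleton E (E ⊗[D] P) x)
  have han : an ≠ ⊤ := fun h => hne (by
    have : (1 : E) ∈ an := h ▸ trivial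
    simpa [an] using this)
  obtain ⟨Q, hQ, hQle⟩ := Ideal.exists_le_maximal an han
  have hIQ : I.map (algebraMap D E) ≤ Q := by
    refine le_trans ?_ hQle
    rw [Ideal.map_le_iff_le_comap]
    intro a ha
    show algebraMap D E a • x = 0
    rw [algebraMap_smul]
    clear hx hne hQle han
    induction x using TensorProduct.induction_on with
    | zero => exact smul_zero _
    | tmul c q => rw [← TensorProduct.tmul_smul, hI a ha, TensorProduct.tmul_zero]
    | add u v hu hv => rw [smul_add, hu, hv, add_zero]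
  obtain ⟨S', _, _, _, _, hSE, hSD, hQS⟩ := H Q hQ hIQ
  let e := TensorProduct.AlgebraTensorModule.cancelBaseChange D E E S' P
  let e' := TensorProduct.AlgebraTensorModule.cancelBaseChange D E E S' P'
  have hnat : ∀ w : E ⊗[D] P, e' (1 ⊗ₜ[E] f.lTensor E w) = f.lTensor S' (e (1 ⊗ₜ[E] w)) := by
    intro w
    induction w using TensorProduct.induction_on with
    | zero => simp
    | add u v hu hv => simp only [map_add, TensorProduct.tmul_add, hu, hv]
    | tmul c q => simp [e, e']
  have h0 : (1 : S') ⊗ₜ[E] x = 0 := by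
    refine e.injective ?_
    rw [map_zero]
    refine Module.Flat.lTensor_preserves_injective_linearMap (M := S') f hf ?_
    rw [map_zero, ← hnat, hx, TensorProduct.tmul_zero, map_zero]
  -- the annihilator extends to the unit ideal
  let ι : E →ₗ[E] E ⊗[D] P := LinearMap.toSpanSingleton E _ x
  have hex : Function.Exact (an.subtype.lTensor S') (ι.lTensor S') := Module.Flat.lTensor_exact S' (LinearMap.exact_subtype_ker_map ι)
  obtain ⟨w, hw⟩ := (hex ((1 : S') ⊗ₜ[E] (1 : E))).mp (by simp [ι, h0])
  apply hQS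
  rw [Ideal.eq_top_iff_one]
  have : ∀ w : S' ⊗[E] an, TensorProduct.AlgebraTensorModule.rid E S' S' (an.subtype.lTensor S' w) ∈ Q.map (algebraMap E S') := by
    intro w
    induction w using TensorProduct.induction_on with
    | zero => simp
    | add u v hu hv => rw [map_add, map_add]; exact add_mem hu hv
    | tmul s c =>
      rw [LinearMap.lTensor_tmul, TensorProduct.AlgebraTensorModule.rid_tmul, Submodule.subtype_apply, Algebra.smul_def]
      exact Ideal.mul_mem_right _ _ (Ideal.mem_map_of_mem _ (hQle c.2))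
  have h1 := this w
  rwa [hw, TensorProduct.AlgebraTensorModule.rid_tmul, one_smul] at h1

/-- Flatness of the reduction modulo `I`, checked on flat algebras at maximal ideals. -/
theorem flat_quotient_of_witness {D E : Type u} [CommRing D] [CommRing E] [Algebra D E] (I : Ideal D)
    (H : ∀ Q : Ideal E, Q.IsMaximal → I.map (algebraMap D E) ≤ Q → ∃ (S' : Type u) (_ : CommRing S') (_ : Algebra E S')
      (_ : Algebra D S') (_ : IsScalarTower D E S'), Module.Flat E S' ∧ Module.Flat D S' ∧ Q.map (algebraMap E S') ≠ ⊤) :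
    Module.Flat (D ⧸ I) ((D ⧸ I) ⊗[D] E) := by
  rw [Module.Flat.iff_rTensor_injective']
  intro J
  let f : J →ₗ[D] (D ⧸ I) := J.subtype.restrictScalars D
  have hinj := lTensor_injective_of_witness I H f Subtype.val_injective (fun a ha q => Subtype.ext (by
    show a • (q : D ⧸ I) = 0
    rw [Algebra.smul_def, Ideal.Quotient.algebraMap_eq, Ideal.Quotient.eq_zero_iff_mem.mpr ha, zero_mul]))
  let e : J ⊗[D ⧸ I] ((D ⧸ I) ⊗[D] E) →+ E ⊗[D] J :=
    (TensorProduct.comm D J E).toLinearMap.toAddMonoidHom.comp
      (TensorProduct.AlgebraTensorModule.cancelBaseChange D (D ⧸ I) (D ⧸ I) J E).toLinearMap.toAddMonoidHom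
  let e' : (D ⧸ I) ⊗[D ⧸ I] ((D ⧸ I) ⊗[D] E) →+ E ⊗[D] (D ⧸ I) :=
    (TensorProduct.comm D (D ⧸ I) E).toLinearMap.toAddMonoidHom.comp
      (TensorProduct.AlgebraTensorModule.cancelBaseChange D (D ⧸ I) (D ⧸ I) (D ⧸ I) E).toLinearMap.toAddMonoidHom
  have hnat : ∀ w, e' (J.subtype.rTensor ((D ⧸ I) ⊗[D] E) w) = f.lTensor E (e w) := by
    intro w
    induction w using TensorProduct.induction_on with
    | zero => rw [LinearMap.map_zero, AddMonoidHom.map_zero, AddMonoidHom.map_zero, LinearMap.map_zero]
    | add u v hu hv => rw [LinearMap.map_add, AddMonoidHom.map_add, AddMonoidHom.map_add, LinearMap.map_add, hu, hv]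
    | tmul j m =>
      induction m using TensorProduct.induction_on with
      | zero => rw [TensorProduct.tmul_zero, LinearMap.map_zero, AddMonoidHom.map_zero, AddMonoidHom.map_zero, LinearMap.map_zero]
      | add u v hu hv =>
        rw [TensorProduct.tmul_add, LinearMap.map_add, AddMonoidHom.map_add, AddMonoidHom.map_add, LinearMap.map_add, hu, hv]
      | tmul c z =>
        show TensorProduct.comm D (D ⧸ I) E (TensorProduct.AlgebraTensorModule.cancelBaseChange D (D ⧸ I) (D ⧸ I) (D ⧸ I) E
          ((j : D ⧸ I) ⊗ₜ[D ⧸ I] (c ⊗ₜ[D] z))) = f.lTensor E (TensorProduct.comm D J E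
            (TensorProduct.AlgebraTensorModule.cancelBaseChange D (D ⧸ I) (D ⧸ I) J E (j ⊗ₜ[D ⧸ I] (c ⊗ₜ[D] z))))
        rw [TensorProduct.AlgebraTensorModule.cancelBaseChange_tmul, TensorProduct.AlgebraTensorModule.cancelBaseChange_tmul,
          TensorProduct.comm_tmul, TensorProduct.comm_tmul, LinearMap.lTensor_tmul]
        rfl
  intro u v huv
  refine (TensorProduct.AlgebraTensorModule.cancelBaseChange D (D ⧸ I) (D ⧸ I) J E).injective
    ((TensorProduct.comm D J E).injective ?_)
  show e u = e v
  refine hinj ?_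
  rw [← hnat, ← hnat, huv]

/-- Flatness of a truncated base change. -/
theorem flat_quotient_tensor {R C D : Type u} [CommRing R] [CommRing C] [CommRing D] [Algebra R C] [Algebra R D]
    (I : Ideal D)
    (H : ∀ Q : Ideal (D ⊗[R] C), Q.IsMaximal → I.map (algebraMap D (D ⊗[R] C)) ≤ Q → ∃ (S' : Type u) (_ : CommRing S')
      (_ : Algebra (D ⊗[R] C) S') (_ : Algebra D S') (_ : IsScalarTower D (D ⊗[R] C) S'),
      Module.Flat (D ⊗[R] C) S' ∧ Module.Flat D S' ∧ Q.map (algebraMap (D ⊗[R] C) S') ≠ ⊤) :
    Module.Flat (D ⧸ I) ((D ⧸ I) ⊗[R] C) :=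
  haveI := flat_quotient_of_witness I H
  Module.Flat.of_linearEquiv (TensorProduct.AlgebraTensorModule.cancelBaseChange R D (D ⧸ I) (D ⧸ I) C).symm

variable {X Y : Scheme.{u}} (f : X ⟶ Y)

set_option backward.isDefEq.respectTransparency false in
set_option maxHeartbeats 800000 in
/-- Flatness at a point over a reduced Noetherian local ring is detected by discrete valuation rings. -/
theorem flat_stalkMap_of_forall_dvr [LocallyOfFiniteType f] (x : X)
    [IsNoetherianRing (Y.presheaf.stalk (f x))] [_root_.IsReduced (Y.presheaf.stalk (f x))]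
    (h : ∀ (D : Type u) [CommRing D] [IsDomain D] [IsDiscreteValuationRing D]
      (φ : (Y.presheaf.stalk (f x) : Type u) →+* D) [IsLocalHom φ],
      ∀ x' : ↥(pullback f (Spec.map (CommRingCat.ofHom φ) ≫ Y.fromSpecStalk (f x))),
        pullback.fst f _ x' = x →
        pullback.snd f _ x' = IsLocalRing.closedPoint D →
        ((pullback.snd f (Spec.map (CommRingCat.ofHom φ) ≫ Y.fromSpecStalk (f x))).stalkMap x').hom.Flat) :
    (f.stalkMap x).hom.Flat := by
  let R := Y.presheaf.stalk (f x)
  let C := X.presheaf.stalk x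
  algebraize [(f.stalkMap x).hom]
  haveI : Algebra.EssFiniteType R C := LocallyOfFiniteType.stalkMap f x
  haveI : IsLocalHom (algebraMap R C) := inferInstanceAs (IsLocalHom (f.stalkMap x).hom)
  haveI : IsNoetherianRing C := Algebra.EssFiniteType.isNoetherianRing R C
  show Module.Flat R C
  refine flat_of_forall_dvr (C := C) fun D _ _ _ _ _ halg n hn => ?_
  let φ : (Y.presheaf.stalk (f x) : Type u) →+* D := algebraMap R D
  let k := Spec.map (CommRingCat.ofHom φ) ≫ Y.fromSpecStalk (f x)
  let mD := IsLocalRing.maximalIdeal D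
  refine flat_quotient_tensor (mD ^ n) fun Q hQ hIQ => ?_
  let E := D ⊗[R] C
  haveI := hQ
  have hmD : mD ≤ Q.comap (algebraMap D E) := fun d hd =>
    hQ.isPrime.mem_of_pow_mem n (by rw [← map_pow]; exact hIQ (Ideal.mem_map_of_mem _ (Ideal.pow_mem_pow hd n)))
  -- the contraction to `C` is maximal
  let ρ : C →ₐ[R] E := Algebra.TensorProduct.includeRight
  let π := Ideal.Quotient.mk Q
  have hint : (π.comp ρ.toRingHom).IsIntegral := by
    intro z
    obtain ⟨w, rfl⟩ := Ideal.Quotient.mk_surjective z
    induction w using TensorProduct.induction_on with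
    | zero => rw [map_zero]; exact (π.comp ρ.toRingHom).isIntegralElem_zero
    | add u v hu hv => rw [map_add]; exact hu.add _ hv
    | tmul d c =>
      rw [show d ⊗ₜ[R] c = (d ⊗ₜ[R] (1 : C)) * ((1 : D) ⊗ₜ[R] c) from by
        rw [Algebra.TensorProduct.tmul_mul_tmul, mul_one, one_mul], map_mul]
      refine RingHom.IsIntegralElem.mul _ ?_ ((π.comp ρ.toRingHom).isIntegralElem_map)
      obtain ⟨p, hp, hpd⟩ := halg d
      refine ⟨p.map (algebraMap R C), hp.map _, ?_⟩
      have e0 : (π.comp ρ.toRingHom).comp (algebraMap R C) = (π.comp (algebraMap D E)).comp (algebraMap R D) := by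
        refine RingHom.ext fun r => congrArg π ?_
        show ρ (algebraMap R C r) = algebraMap D E (algebraMap R D r)
        rw [AlgHom.commutes, ← IsScalarTower.algebraMap_apply]
      rw [Polynomial.eval₂_map, e0, show π (d ⊗ₜ[R] (1 : C)) = (π.comp (algebraMap D E)) d from rfl,
        ← Polynomial.hom_eval₂]
      exact Ideal.Quotient.eq_zero_iff_mem.mpr (hmD hpd)
  have hQC : Q.comap ρ.toRingHom = IsLocalRing.maximalIdeal C := by
    refine IsLocalRing.eq_maximalIdeal ?_
    letI := (π.comp ρ.toRingHom).toAlgebra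
    haveI : Algebra.IsIntegral C (E ⧸ Q) := ⟨hint⟩
    haveI : (⊥ : Ideal (E ⧸ Q)).IsMaximal := by
      letI := Ideal.Quotient.field Q
      exact Ideal.bot_isMaximal
    have h0 := Ideal.isMaximal_comap_of_isIntegral_of_isMaximal (R := C) (⊥ : Ideal (E ⧸ Q))
    have e1 : Q.comap ρ.toRingHom = (⊥ : Ideal (E ⧸ Q)).comap (algebraMap C (E ⧸ Q)) := by
      ext c
      show ρ c ∈ Q ↔ Ideal.Quotient.mk Q (ρ c) = 0
      exact Ideal.Quotient.eq_zero_iff_mem.symm
    rw [e1]
    exact h0
  -- the point of the fibre product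
  have ha : Spec.map (CommRingCat.ofHom (algebraMap R C)) ≫ Y.fromSpecStalk (f x) = X.fromSpecStalk x ≫ f :=
    Scheme.SpecMap_stalkMap_fromSpecStalk f
  have hb : Spec.map (CommRingCat.ofHom (algebraMap R D)) ≫ Y.fromSpecStalk (f x) = 𝟙 _ ≫ k := (Category.id_comp _).symm
  let Φ : Spec (.of (C ⊗[R] D)) ⟶ pullback f k := (pullbackSpecIso R C D).inv ≫
    pullback.map _ _ _ _ (X.fromSpecStalk x) (𝟙 _) (Y.fromSpecStalk (f x)) ha hb
  haveI : Mono (pullback.map (Spec.map (CommRingCat.ofHom (algebraMap R C)))
      (Spec.map (CommRingCat.ofHom (algebraMap R D))) f k (X.fromSpecStalk x) (𝟙 _) (Y.fromSpecStalk (f x)) ha hb) := by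
    refine ⟨fun u v huv => pullback.hom_ext ?_ ?_⟩
    · rw [← cancel_mono (X.fromSpecStalk x), Category.assoc, Category.assoc]
      have h' := congrArg (fun w => w ≫ pullback.fst f k) huv
      simp only [Category.assoc] at h'
      erw [pullback.lift_fst] at h'
      exact h'
    · have h' := congrArg (fun w => w ≫ pullback.snd f k) huv
      simp only [Category.assoc] at h'
      erw [pullback.lift_snd, Category.comp_id] at h'
      exact h'
  haveI : Mono Φ := mono_comp _ _
  let σc : E ≃ₐ[R] C ⊗[R] D := Algebra.TensorProduct.comm R D C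
  let q : ↥(Spec (.of (C ⊗[R] D))) := (⟨Q.comap σc.symm.toRingEquiv.toRingHom, Ideal.IsPrime.comap _⟩ : PrimeSpectrum (C ⊗[R] D))
  have hfst : pullback.fst f k (Φ q) = x := by
    have e1 : Φ ≫ pullback.fst f k = Spec.map (CommRingCat.ofHom (Algebra.TensorProduct.includeLeftRingHom : C →+* C ⊗[R] D)) ≫ X.fromSpecStalk x := by
      simp only [Φ, Category.assoc, pullback.lift_fst, pullbackSpecIso_inv_fst_assoc]
    rw [← Scheme.Hom.comp_apply, e1, Scheme.Hom.comp_apply]
    refine Eq.trans (congrArg (X.fromSpecStalk x) (?_ : _ = IsLocalRing.closedPoint C)) Scheme.fromSpecStalk_closedPoint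
    refine PrimeSpectrum.ext ?_
    show (Q.comap σc.symm.toRingEquiv.toRingHom).comap Algebra.TensorProduct.includeLeftRingHom = IsLocalRing.maximalIdeal C
    rw [← hQC, Ideal.comap_comap]
    congr 1
  have hsnd : pullback.snd f k (Φ q) = IsLocalRing.closedPoint D := by
    have e1 : Φ ≫ pullback.snd f k = Spec.map (CommRingCat.ofHom (R := D) (S := C ⊗[R] D)
        (RingHomClass.toRingHom (Algebra.TensorProduct.includeRight : D →ₐ[R] C ⊗[R] D))) := by
      simp only [Φ, Category.assoc, pullback.lift_snd, Category.comp_id, pullbackSpecIso_inv_snd]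
    rw [← Scheme.Hom.comp_apply, e1]
    refine PrimeSpectrum.ext (le_antisymm (IsLocalRing.le_maximalIdeal (Ideal.IsPrime.ne_top inferInstance)) ?_)
    exact fun d hd => hmD hd
  have hflat := h D φ (Φ q) hfst hsnd
  let P := pullback f k
  let S' := P.presheaf.stalk (Φ q)
  let c : Spec S' ⟶ P := P.fromSpecStalk (Φ q)
  obtain ⟨τ, hτ⟩ : ∃ τ : Spec S' ⟶ Spec C, τ ≫ X.fromSpecStalk x = c ≫ pullback.fst f k := by
    refine ⟨Spec.map (X.presheaf.stalkSpecializes (specializes_of_eq hfst) ≫ (pullback.fst f k).stalkMap (Φ q)), ?_⟩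
    rw [Spec.map_comp, Category.assoc, Scheme.SpecMap_stalkSpecializes_fromSpecStalk]
    exact Scheme.SpecMap_stalkMap_fromSpecStalk _
  letI : Algebra C S' := (Spec.preimage τ).hom.toAlgebra
  letI : Algebra D S' := (Spec.preimage (c ≫ pullback.snd f k)).hom.toAlgebra
  letI : Algebra R S' := ((algebraMap C S').comp (algebraMap R C)).toAlgebra
  haveI : IsScalarTower R C S' := IsScalarTower.of_algebraMap_eq fun _ => rfl
  have hC : Spec.map (CommRingCat.ofHom (algebraMap C S')) ≫ X.fromSpecStalk x = c ≫ pullback.fst f k := by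
    rw [← hτ]; congr 1; exact Spec.map_preimage τ
  have hD : Spec.map (CommRingCat.ofHom (algebraMap D S')) ≫ 𝟙 _ = c ≫ pullback.snd f k := by
    rw [Category.comp_id]; exact Spec.map_preimage _
  haveI : IsScalarTower R D S' := by
    refine IsScalarTower.of_algebraMap_eq' ?_
    have e : Spec.map (CommRingCat.ofHom (algebraMap R S')) = Spec.map (CommRingCat.ofHom ((algebraMap D S').comp (algebraMap R D))) := by
      rw [← cancel_mono (Y.fromSpecStalk (f x))]
      show Spec.map (CommRingCat.ofHom (algebraMap R C) ≫ CommRingCat.ofHom (algebraMap C S')) ≫ _ =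
        Spec.map (CommRingCat.ofHom (algebraMap R D) ≫ CommRingCat.ofHom (algebraMap D S')) ≫ _
      rw [Spec.map_comp, Spec.map_comp, Category.assoc, Category.assoc, ha, hb, ← Category.assoc, hC, Category.assoc,
        pullback.condition, ← Category.assoc _ (𝟙 _), hD, Category.assoc]
    exact congrArg CommRingCat.Hom.hom (Spec.map_injective e)
  let T := H06Mod.tensorLift R C D S'
  have hT : T.toRingHom.Flat := H06Mod.flat_tensorLift R C D S' f k (X.fromSpecStalk x) (Y.fromSpecStalk (f x)) (𝟙 _) ha hb c hC hD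
  have hDf : (algebraMap D S').Flat := by
    haveI : Flat (Spec.map ((pullback.snd f k).stalkMap (Φ q))) := (HasRingHomProperty.Spec_iff (P := @Flat)).mpr hflat
    have h1 : Flat (c ≫ pullback.snd f k) := by
      rw [← Scheme.SpecMap_stalkMap_fromSpecStalk]; infer_instance
    exact (HasRingHomProperty.Spec_iff (P := @Flat) (φ := CommRingCat.ofHom (algebraMap D S'))).mp
      ((Category.comp_id _).symm.trans hD ▸ h1)
  letI : Algebra E S' := (T.toRingHom.comp σc.toRingEquiv.toRingHom).toAlgebra
  refine ⟨S', inferInstance, this, inferInstance, ?_, ?_, ?_, ?_⟩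
  · refine IsScalarTower.of_algebraMap_eq fun d => ?_
    show algebraMap D S' d = algebraMap C S' 1 * algebraMap D S' d
    rw [map_one, one_mul]
  · exact (RingHom.Flat.of_bijective σc.bijective).comp hT
  · exact hDf
  · intro htop
    have hle : (Q.comap σc.symm.toRingEquiv.toRingHom).map T.toRingHom ≤ IsLocalRing.maximalIdeal S' := by
      rw [Ideal.map_le_iff_le_comap]
      have e1 : Spec.map (CommRingCat.ofHom T.toRingHom) ≫ Φ = c := by
        apply pullback.hom_ext
        · simp only [Φ, Category.assoc, pullback.lift_fst, pullbackSpecIso_inv_fst_assoc]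
          rw [← Category.assoc, ← Spec.map_comp, ← hC]
          congr 2
          ext r
          simp [T, H06Mod.tensorLift]
        · simp only [Φ, Category.assoc, pullback.lift_snd, Category.comp_id, pullbackSpecIso_inv_snd]
          rw [← Spec.map_comp, ← hD, Category.comp_id]
          congr 1
          ext r
          simp [T, H06Mod.tensorLift]
      have e2 : Spec.map (CommRingCat.ofHom T.toRingHom) (IsLocalRing.closedPoint S') = q :=
        Φ.injective ((congrArg (fun ψ : Spec S' ⟶ P => ψ (IsLocalRing.closedPoint S')) e1).trans Scheme.fromSpecStalk_closedPoint)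
      exact (congrArg PrimeSpectrum.asIdeal e2).ge
    have hne := ne_top_of_le_ne_top (IsLocalRing.maximalIdeal.isMaximal S').ne_top hle
    refine hne ?_
    rw [← htop, RingHom.algebraMap_toAlgebra, ← Ideal.map_map]
    congr 1
    exact (Ideal.map_comap_of_equiv σc.toRingEquiv).symm

end Groth.Agent.H06FlatVal
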