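import Mathlib
import Groth.Agent.H22Alg.KrullAkizuki
import Groth.Agent.H24Adic.Basic
import Groth.Agent.S17754

/-!
Discrete valuation rings with algebraic residue extensions separate reduced Noetherian local rings.
-/

universe u

namespace Groth.Agent.H06FlatVal

/-- A prime of coheight one avoiding a given element of the maximal ideal that is not nilpotent. -/
theorem exists_prime_krullDimLE_one {R : Type u} [CommRing R] [IsNoetherianRing R] [IsLocalRing R] {h : R}
    (hm : h ∈ IsLocalRing.maximalIdeal R) (hn : ¬ IsNilpotent h) :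
    ∃ q : Ideal R, ∃ _ : q.IsPrime, h ∉ q ∧ q ≠ IsLocalRing.maximalIdeal R ∧
      ∀ p : Ideal R, p.IsPrime → q ≤ p → p = q ∨ p = IsLocalRing.maximalIdeal R := by
  obtain ⟨q, hq, hqmax⟩ := set_has_maximal_iff_noetherian.mpr (inferInstance : IsNoetherian R R)
    {p : Ideal R | p.IsPrime ∧ h ∉ p} (by
      rw [nilpotent_iff_mem_prime] at hn
      push Not at hn
      obtain ⟨p, hp, hhp⟩ := hn
      exact ⟨p, hp, hhp⟩)
  haveI := hq.1
  refine ⟨q, hq.1, hq.2, fun e => hq.2 (e ▸ hm), ?_⟩
  let B := R ⧸ q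
  haveI : IsLocalRing B := IsLocalRing.of_surjective' (Ideal.Quotient.mk q) Ideal.Quotient.mk_surjective
  have hmem : ∀ P : Ideal B, P.IsPrime → P ≠ ⊥ → Ideal.Quotient.mk q h ∈ P := by
    intro P hP hne
    by_contra hh
    refine hqmax (P.comap (Ideal.Quotient.mk q)) ⟨hP.comap _, hh⟩ (lt_of_le_of_ne ?_ fun e => hne ?_)
    · exact fun a ha => by rw [Ideal.mem_comap, Ideal.Quotient.eq_zero_iff_mem.mpr ha]; exact P.zero_mem
    · rw [← Ideal.map_comap_of_surjective _ Ideal.Quotient.mk_surjective P, ← e, Ideal.map_quotient_self]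
  have hh0 : Ideal.Quotient.mk q h ≠ 0 := fun e => hq.2 (Ideal.Quotient.eq_zero_iff_mem.mp e)
  have hmB : IsLocalRing.maximalIdeal B ∈ (Ideal.span {Ideal.Quotient.mk q h}).minimalPrimes := by
    by_contra hnot
    have hfin := (Ideal.span {Ideal.Quotient.mk q h}).finite_minimalPrimes_of_isNoetherianRing B
    have hnsub : ¬ ((IsLocalRing.maximalIdeal B : Set B) ⊆ ⋃ p ∈ (hfin.toFinset : Set (Ideal B)), (p : Set B)) := by
      rw [Ideal.subset_union_prime ⊥ ⊥ (fun p hp _ _ => (hfin.mem_toFinset.mp hp).1.1)]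
      rintro ⟨p, hp, hle⟩
      have hp' := hfin.mem_toFinset.mp hp
      exact hnot ((IsLocalRing.maximalIdeal.isMaximal B).eq_of_le hp'.1.1.ne_top hle ▸ hp')
    obtain ⟨x, hxm, hx⟩ := Set.not_subset.mp hnsub
    obtain ⟨P, hP, -⟩ := Ideal.exists_minimalPrimes_le
      (show Ideal.span {x} ≤ IsLocalRing.maximalIdeal B from (Ideal.span_singleton_le_iff_mem _).mpr hxm)
    haveI := hP.1.1
    have hPne : P ≠ ⊥ := by
      intro e
      have : x ∈ P := hP.1.2 (Ideal.mem_span_singleton_self x)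
      rw [e, Ideal.mem_bot] at this
      obtain ⟨P', hP', -⟩ := Ideal.exists_minimalPrimes_le
        (show Ideal.span {Ideal.Quotient.mk q h} ≤ IsLocalRing.maximalIdeal B from
          IsLocalRing.le_maximalIdeal (by
            intro htop
            rw [Ideal.span_singleton_eq_top] at htop
            exact hm (isUnit_of_map_unit' htop)))
      exact hx (Set.mem_biUnion (hfin.mem_toFinset.mpr hP') (this ▸ P'.zero_mem))
    obtain ⟨P', hP', hP'le⟩ := Ideal.exists_minimalPrimes_le
      ((Ideal.span_singleton_le_iff_mem _).mpr (hmem P inferInstance hPne))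
    haveI := hP'.1.1
    have hP'ne : P' ≠ ⊥ := fun e => hh0 (by
      simpa [e] using hP'.1.2 (Ideal.mem_span_singleton_self (Ideal.Quotient.mk q h)))
    have heq : P' = P := by
      by_contra hne
      have h1 : P'.height < P.height := Ideal.height_strict_mono_of_isPrime (lt_of_le_of_ne hP'le hne)
      have h2 : P.height ≤ 1 := Ideal.height_le_one_of_isPrincipal_of_mem_minimalPrimes (Ideal.span {x}) P hP
      have h3 : (⊥ : Ideal B).height < P'.height :=
        Ideal.height_strict_mono_of_isPrime (bot_lt_iff_ne_bot.mpr hP'ne)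
      have h4 : P'.height = 0 := ENat.lt_one_iff_eq_zero.mp (h1.trans_le h2)
      rw [h4] at h3
      exact not_lt_zero h3
    exact hx (Set.mem_biUnion (hfin.mem_toFinset.mpr (heq ▸ hP')) (hP.1.2 (Ideal.mem_span_singleton_self x)))
  intro p hp hqp
  by_cases hpq : p = q
  · exact Or.inl hpq
  right
  haveI : (p.map (Ideal.Quotient.mk q)).IsPrime :=
    Ideal.map_isPrime_of_surjective Ideal.Quotient.mk_surjective (by rwa [Ideal.mk_ker])
  have hne : p.map (Ideal.Quotient.mk q) ≠ ⊥ := by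
    rw [Ne, Ideal.map_eq_bot_iff_le_ker, Ideal.mk_ker]
    exact fun e => hpq (le_antisymm e hqp)
  have hmax : IsLocalRing.maximalIdeal B ≤ p.map (Ideal.Quotient.mk q) :=
    hmB.2 ⟨inferInstance, (Ideal.span_singleton_le_iff_mem _).mpr (hmem _ inferInstance hne)⟩
      (IsLocalRing.le_maximalIdeal (Ideal.IsPrime.ne_top inferInstance))
  refine le_antisymm (IsLocalRing.le_maximalIdeal hp.ne_top) fun a ha => ?_
  have : Ideal.Quotient.mk q a ∈ p.map (Ideal.Quotient.mk q) := hmax (fun hu => ha (isUnit_of_map_unit' hu))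
  obtain ⟨b, hb, hba⟩ := (Ideal.mem_map_iff_of_surjective _ Ideal.Quotient.mk_surjective).mp this
  simpa using add_mem hb (hqp (Ideal.Quotient.eq.mp hba.symm))
where
  isUnit_of_map_unit' {R : Type u} [CommRing R] [IsLocalRing R] {q : Ideal R} [q.IsPrime] {a : R}
      (hu : IsUnit (Ideal.Quotient.mk q a)) : IsUnit a := by
    haveI : IsLocalHom (Ideal.Quotient.mk q) := IsLocalHom.of_surjective _ Ideal.Quotient.mk_surjective
    exact IsUnit.of_map (Ideal.Quotient.mk q) a hu

/-- A discrete valuation ring, algebraic on residue fields, on which a given element survives. -/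
theorem exists_dvr_ne_zero {R : Type u} [CommRing R] [IsReduced R] [IsNoetherianRing R] [IsLocalRing R]
    (hR : ¬ IsField R) {f : R} (hf : f ≠ 0) :
    ∃ (D : Type u) (_ : CommRing D) (_ : IsDomain D) (_ : IsDiscreteValuationRing D) (φ : R →+* D),
      IsLocalHom φ ∧ φ f ≠ 0 ∧
      ∀ d : D, ∃ p : Polynomial R, p.Monic ∧ p.eval₂ φ d ∈ IsLocalRing.maximalIdeal D := by
  obtain ⟨P, hP, hfP⟩ : ∃ P : Ideal R, P ∈ minimalPrimes R ∧ f ∉ P := by
    by_contra hcon
    push Not at hcon
    have : f ∈ nilradical R := by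
      rw [nilradical, ← Ideal.sInf_minimalPrimes]
      exact Ideal.mem_sInf.mpr fun {p} hp => hcon p hp
    rw [nilradical_eq_zero] at this
    exact hf this
  haveI := Ideal.minimalPrimes_isPrime hP
  have hPm : P ≠ IsLocalRing.maximalIdeal R := by
    intro e
    haveI : Ring.KrullDimLE 0 R := Ring.krullDimLE_zero_iff.mpr fun p hp => by
      have hle := IsLocalRing.le_maximalIdeal hp.ne_top
      have : IsLocalRing.maximalIdeal R ≤ p := e ▸ hP.2 ⟨hp, bot_le⟩ (e ▸ hle)
      exact le_antisymm hle this ▸ IsLocalRing.maximalIdeal.isMaximal R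
    exact hR (Ring.KrullDimLE.isField_of_isReduced (R := R))
  obtain ⟨g, hgm, hgP⟩ := SetLike.exists_of_lt (lt_of_le_of_ne (IsLocalRing.le_maximalIdeal (Ideal.IsPrime.ne_top inferInstance)) hPm)
  have hh : f * g ∉ P := fun h => ((Ideal.IsPrime.mem_or_mem inferInstance h).elim hfP hgP)
  obtain ⟨q, hq, hhq, hqm, hdim⟩ := exists_prime_krullDimLE_one (h := f * g) (Ideal.mul_mem_left _ _ hgm)
    (fun hn => hh (nilpotent_iff_mem_prime.mp hn P inferInstance))
  let B := R ⧸ q
  haveI : IsLocalRing B := IsLocalRing.of_surjective' (Ideal.Quotient.mk q) Ideal.Quotient.mk_surjective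
  haveI : Ring.KrullDimLE 1 B := by
    refine Ring.krullDimLE_one_iff.mpr fun p hp => ?_
    haveI := hp
    rcases hdim (p.comap (Ideal.Quotient.mk q)) (hp.comap _) (fun a ha => by
      rw [Ideal.mem_comap, Ideal.Quotient.eq_zero_iff_mem.mpr ha]; exact p.zero_mem) with h | h
    · left
      have : p = ⊥ := by
        rw [← Ideal.map_comap_of_surjective _ Ideal.Quotient.mk_surjective p, h, Ideal.map_quotient_self]
      rw [this]
      exact IsDomain.minimalPrimes_eq_singleton_bot B ▸ rfl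
    · right
      rw [← Ideal.map_comap_of_surjective _ Ideal.Quotient.mk_surjective p, h]
      exact Ideal.IsMaximal.map_of_surjective_of_ker_le Ideal.Quotient.mk_surjective
        (by rw [Ideal.mk_ker]; exact IsLocalRing.le_maximalIdeal hq.ne_top)
  let K := FractionRing B
  let C := integralClosure B K
  haveI : IsDedekindDomain C := H22Alg.isDedekindDomain_integralClosure
  haveI : Algebra.IsIntegral B C := IsIntegralClosure.isIntegral_algebra B K
  have hinj : Function.Injective (algebraMap B C) := fun a b hab =>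
    IsFractionRing.injective B K (congrArg Subtype.val hab)
  obtain ⟨M, hMmax, hMm⟩ := Ideal.exists_ideal_over_maximal_of_isIntegral (S := C) (IsLocalRing.maximalIdeal B)
    (by rw [(RingHom.injective_iff_ker_eq_bot _).mp hinj]; exact bot_le)
  haveI := hMmax
  have hMne : M ≠ ⊥ := by
    rintro rfl
    rw [Ideal.comap_bot_of_injective _ hinj] at hMm
    refine hqm (le_antisymm (IsLocalRing.le_maximalIdeal hq.ne_top) fun a ha => ?_)
    refine Ideal.Quotient.eq_zero_iff_mem.mp (Ideal.mem_bot.mp (hMm.ge ?_))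
    intro hu
    exact ha (exists_prime_krullDimLE_one.isUnit_of_map_unit' hu)
  let D := Localization.AtPrime M
  haveI : IsDiscreteValuationRing D := IsLocalization.AtPrime.isDiscreteValuationRing_of_dedekind_domain C hMne D
  let ψ : C →+* D := algebraMap C D
  let φ : R →+* D := ψ.comp ((algebraMap B C).comp (Ideal.Quotient.mk q))
  have hψ : ∀ c ∈ M, ψ c ∈ IsLocalRing.maximalIdeal D := fun c hc =>
    (IsLocalization.AtPrime.to_map_mem_maximal_iff D M c).mpr hc
  refine ⟨D, inferInstance, inferInstance, inferInstance, φ, ?_, ?_, ?_⟩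
  · constructor
    intro a ha
    by_contra hna
    have h1 : algebraMap B C (Ideal.Quotient.mk q a) ∈ M := by
      rw [← Ideal.mem_comap, hMm]
      exact fun hu => hna (exists_prime_krullDimLE_one.isUnit_of_map_unit' hu)
    exact (IsLocalRing.mem_maximalIdeal _).mp (hψ _ h1) ha
  · intro h0
    have h1 : algebraMap B C (Ideal.Quotient.mk q f) = 0 :=
      IsLocalization.injective D (Ideal.primeCompl_le_nonZeroDivisors M) (h0.trans (map_zero _).symm)
    have h2 : f ∈ q := Ideal.Quotient.eq_zero_iff_mem.mp (hinj (h1.trans (map_zero _).symm))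
    exact hhq (q.mul_mem_right g h2)
  · intro d
    obtain ⟨⟨c, s⟩, hcs⟩ := IsLocalization.surj M.primeCompl d
    haveI : M.IsPrime := hMmax.isPrime
    obtain ⟨t, ht⟩ := Ideal.IsMaximal.exists_inv hMmax (show (s : C) ∉ M from s.2)
    obtain ⟨p', hp'm, hp'0⟩ := Algebra.IsIntegral.isIntegral (R := B) (c * t : C)
    obtain ⟨p, hp, hpd, hpm⟩ := Polynomial.lifts_and_degree_eq_and_monic
      (Polynomial.map_surjective _ Ideal.Quotient.mk_surjective p') hp'm
    refine ⟨p, hpm, ?_⟩
    obtain ⟨m, hm, hts⟩ := ht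
    have hdc : d - ψ (c * t) ∈ IsLocalRing.maximalIdeal D := by
      have hsu : IsUnit (ψ s) := IsLocalization.map_units D s
      have : (d - ψ (c * t)) * ψ s = ψ (c * m) := by
        have e : t * (s : C) = 1 - m := by linear_combination hts
        show (d - ψ (c * t)) * algebraMap C D s = _
        refine (sub_mul d (ψ (c * t)) (algebraMap C D s)).trans ?_
        rw [hcs]
        show ψ c - ψ (c * t) * ψ s = _
        rw [← map_mul]
        refine (map_sub ψ c (c * t * s)).symm.trans ?_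
        congr 1
        linear_combination (-(c : C)) * e
      rw [← Ideal.mul_unit_mem_iff_mem _ hsu, this]
      exact hψ _ (M.mul_mem_left _ hm)
    have h0 : p.eval₂ φ (ψ (c * t)) = 0 := by
      have : p.eval₂ ((algebraMap B C).comp (Ideal.Quotient.mk q)) (c * t) = 0 := by
        rw [← Polynomial.eval₂_map, hp]
        exact hp'0
      show p.eval₂ (ψ.comp _) _ = 0
      rw [← Polynomial.hom_eval₂, this, map_zero]
    have h2 := Polynomial.eval₂_eq_eval_map (p := p) (f := φ) (x := d)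
    have h3 := Polynomial.eval₂_eq_eval_map (p := p) (f := φ) (x := ψ (c * t))
    have h4 := Polynomial.sub_dvd_eval_sub d (ψ (c * t)) (p.map φ)
    rw [← h2, ← h3, h0] at h4
    exact Ideal.mem_of_dvd _ (h4.trans (dvd_of_eq (by exact sub_zero (Polynomial.eval₂ φ d p)))) hdc

/-- In a complete reduced local ring, discrete valuation rings detect every power of the maximal ideal. -/
theorem exists_finite_dvr_family {A : Type u} [CommRing A] [IsReduced A] [IsNoetherianRing A] [IsLocalRing A]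
    [IsAdicComplete (IsLocalRing.maximalIdeal A) A] (hA : ¬ IsField A) (n : ℕ) :
    ∃ (ι : Type u) (_ : Finite ι) (D : ι → Type u) (_ : ∀ i, CommRing (D i)) (_ : ∀ i, IsDomain (D i))
      (_ : ∀ i, IsDiscreteValuationRing (D i)) (φ : ∀ i, A →+* D i) (e : ι → ℕ),
      (∀ i, IsLocalHom (φ i) ∧
        ∀ d : D i, ∃ p : Polynomial A, p.Monic ∧ p.eval₂ (φ i) d ∈ IsLocalRing.maximalIdeal (D i)) ∧
      (∀ i, 0 < e i) ∧
      ⨅ i, (IsLocalRing.maximalIdeal (D i) ^ e i).comap (φ i) ≤ IsLocalRing.maximalIdeal A ^ n := by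
  classical
  let 𝔪 := IsLocalRing.maximalIdeal A
  let 𝒦 : Set (Ideal A) := {K | ∃ (D : Type u) (_ : CommRing D) (_ : IsDomain D) (_ : IsDiscreteValuationRing D)
    (φ : A →+* D) (e : ℕ), IsLocalHom φ ∧
      (∀ d : D, ∃ p : Polynomial A, p.Monic ∧ p.eval₂ φ d ∈ IsLocalRing.maximalIdeal D) ∧ 0 < e ∧
      K = (IsLocalRing.maximalIdeal D ^ e).comap φ}
  have hinf : ∀ a : A, (∀ K ∈ 𝒦, a ∈ K) → a = 0 := by
    intro a ha
    by_contra hne
    obtain ⟨D, _, _, _, φ, hloc, hφ, halg⟩ := exists_dvr_ne_zero hA hne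
    refine hφ ?_
    have hmem : φ a ∈ ⨅ i : ℕ, IsLocalRing.maximalIdeal D ^ i := (Submodule.mem_iInf _).mpr fun i => by
      rcases Nat.eq_zero_or_pos i with rfl | hi
      · simp
      · exact ha _ ⟨D, inferInstance, inferInstance, inferInstance, φ, i, hloc, halg, hi, rfl⟩
    rwa [Ideal.iInf_pow_eq_bot_of_isLocalRing _ (IsLocalRing.maximalIdeal.isMaximal D).ne_top, Ideal.mem_bot] at hmem
  have hex : ∀ k : ℕ, ∃ F : Finset 𝒦, ∀ G : Finset 𝒦,
      F.inf (fun K => K.1) ⊔ 𝔪 ^ k ≤ G.inf (fun K => K.1) ⊔ 𝔪 ^ k := by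
    intro k
    haveI : IsArtinianRing (A ⧸ 𝔪 ^ (k + 1)) := IsLocalRing.quotient_artinian_of_mem_minimalPrimes_of_isLocalRing _ (by
      rw [← Ideal.radical_minimalPrimes, Ideal.radical_pow _ k.succ_ne_zero, (IsLocalRing.maximalIdeal.isMaximal A).isPrime.radical,
        Ideal.minimalPrimes_eq_subsingleton_self]
      rfl)
    obtain ⟨_, ⟨F, rfl⟩, hFmin⟩ := IsArtinian.set_has_minimal (R := A ⧸ 𝔪 ^ (k + 1)) (M := A ⧸ 𝔪 ^ (k + 1))
      (Set.range fun F : Finset 𝒦 => (F.inf (fun K => K.1)).map (Ideal.Quotient.mk (𝔪 ^ (k + 1)))) (Set.range_nonempty _)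
    refine ⟨F, fun G => ?_⟩
    have hle : (F.inf fun K => K.1).map (Ideal.Quotient.mk (𝔪 ^ (k + 1))) ≤
        (G.inf fun K => K.1).map (Ideal.Quotient.mk (𝔪 ^ (k + 1))) := by
      have h1 : ((F ∪ G).inf fun K => K.1).map (Ideal.Quotient.mk (𝔪 ^ (k + 1))) =
          (F.inf fun K => K.1).map (Ideal.Quotient.mk (𝔪 ^ (k + 1))) := by
        refine eq_of_le_of_not_lt (Ideal.map_mono (Finset.inf_mono Finset.subset_union_left)) ?_
        exact hFmin _ ⟨F ∪ G, rfl⟩
      exact h1.ge.trans (Ideal.map_mono (Finset.inf_mono Finset.subset_union_right))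
    have h2 := Ideal.comap_mono (f := Ideal.Quotient.mk (𝔪 ^ (k + 1))) hle
    rw [Ideal.comap_map_of_surjective _ Ideal.Quotient.mk_surjective, Ideal.comap_map_of_surjective _ Ideal.Quotient.mk_surjective,
      ← RingHom.ker_eq_comap_bot, Ideal.mk_ker] at h2
    exact sup_le ((le_sup_left.trans h2).trans (sup_le_sup_left (Ideal.pow_le_pow_right k.le_succ) _)) le_sup_right
  choose F hF using hex
  let G : ℕ → Finset 𝒦 := fun s => (Finset.range (s + 1)).biUnion F
  let I : ℕ → Ideal A := fun s => (G s).inf fun K => K.1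
  have hanti : Antitone I := fun a b hab => Finset.inf_mono
    (Finset.biUnion_subset_biUnion_of_subset_left _ (Finset.range_mono (Nat.succ_le_succ hab)))
  have hbot : ⨅ s, I s = ⊥ := by
    rw [eq_bot_iff]
    intro a ha
    refine Ideal.mem_bot.mpr (hinf a fun K hK => ?_)
    by_contra hne
    have hk : ∀ k : ℕ, a ∈ K ⊔ 𝔪 ^ k := by
      intro k
      have hsub : F k ⊆ G k := Finset.subset_biUnion_of_mem F (Finset.mem_range.mpr k.lt_succ_self)
      have hIk : I k ≤ (F k).inf fun K => K.1 := Finset.inf_mono hsub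
      have h1 : a ∈ (F k).inf fun K => K.1 := hIk ((Submodule.mem_iInf _).mp ha k)
      have h2 := hF k {⟨K, hK⟩} (Ideal.mem_sup_left h1)
      rwa [Finset.inf_singleton] at h2
    obtain ⟨D, _, _, _, φ, e, hloc, -, -, rfl⟩ := hK
    obtain ⟨b, hb, c, hc, rfl⟩ := Submodule.mem_sup.mp (hk e)
    refine hne (add_mem hb ?_)
    show φ c ∈ IsLocalRing.maximalIdeal D ^ e
    have hmap : Ideal.map φ 𝔪 ≤ IsLocalRing.maximalIdeal D := ((IsLocalRing.local_hom_TFAE φ).out 0 2).mp hloc
    exact Ideal.pow_right_mono hmap e (by rw [← Ideal.map_pow]; exact Ideal.mem_map_of_mem _ hc)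
  obtain ⟨s, hs⟩ := S17754.result A I hanti hbot n
  have hK : ∀ K : ↥(G s), ∃ (D : Type u) (_ : CommRing D) (_ : IsDomain D) (_ : IsDiscreteValuationRing D)
      (φ : A →+* D) (e : ℕ), IsLocalHom φ ∧
      (∀ d : D, ∃ p : Polynomial A, p.Monic ∧ p.eval₂ φ d ∈ IsLocalRing.maximalIdeal D) ∧ 0 < e ∧
      K.1.1 = (IsLocalRing.maximalIdeal D ^ e).comap φ := fun K => K.1.2
  choose D i1 i2 i3 φ e hl ha he hKe using hK
  refine ⟨↥(G s), inferInstance, D, i1, i2, i3, φ, e, fun i => ⟨hl i, ha i⟩, he, le_trans ?_ hs⟩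
  exact Finset.le_inf fun K hK => (iInf_le _ (⟨K, hK⟩ : ↥(G s))).trans (hKe ⟨K, hK⟩).ge

end Groth.Agent.H06FlatVal
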