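import Mathlib
import Groth.Agent.H7Flat.LocalCriterion

/-!
Torsion in tensor products along injective maps, and a separatedness lemma modulo an ideal.
-/

open TensorProduct

universe u

namespace Groth.Agent.H06FlatVal

/-- Over a reduced Noetherian ring, kernels of tensored injective maps are killed by regular elements. -/
theorem exists_nonZeroDivisor_smul_eq_zero {R : Type u} [CommRing R] [IsReduced R] [IsNoetherianRing R]
    {M P P' : Type u} [AddCommGroup M] [Module R M] [AddCommGroup P] [Module R P] [AddCommGroup P'] [Module R P']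
    (f : P →ₗ[R] P') (hf : Function.Injective f) (x : M ⊗[R] P) (hx : f.lTensor M x = 0) :
    ∃ s ∈ nonZeroDivisors R, s • x = 0 := by
  let I : Ideal R := LinearMap.ker (LinearMap.toSpanSingleton R (M ⊗[R] P) x)
  have hI : ∀ r, r ∈ I ↔ r • x = 0 := fun r => by simp [I]
  have key : ∀ p ∈ minimalPrimes R, ¬ I ≤ p := by
    intro p hp hle
    haveI := Ideal.minimalPrimes_isPrime hp
    let L := Localization.AtPrime p
    haveI : Ring.KrullDimLE 0 L := by
      refine Ring.krullDimLE_iff.mpr ?_
      rw [IsLocalization.AtPrime.ringKrullDim_eq_height p L, Ideal.height_eq_zero_iff.mpr hp]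
      rfl
    letI : Field L := (Ring.KrullDimLE.isField_of_isReduced (R := L)).toField
    haveI : Module.Flat R (L ⊗[R] M) := Module.Flat.trans R L _
    have hinj := Module.Flat.lTensor_preserves_injective_linearMap (M := L ⊗[R] M) f hf
    let e₁ := TensorProduct.assoc R L M P
    let e₂ := TensorProduct.assoc R L M P'
    have h0 : (TensorProduct.mk R L (M ⊗[R] P) 1) x = 0 := by
      refine e₁.symm.injective ?_
      rw [map_zero]
      refine hinj ?_
      rw [map_zero]
      refine e₂.injective ?_
      rw [map_zero]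
      have : e₂.toLinearMap ∘ₗ f.lTensor (L ⊗[R] M) ∘ₗ e₁.symm.toLinearMap = (f.lTensor M).lTensor L := by
        ext l m q
        simp [e₁, e₂]
      rw [show e₂ (f.lTensor (L ⊗[R] M) (e₁.symm ((TensorProduct.mk R L (M ⊗[R] P) 1) x))) =
        ((f.lTensor M).lTensor L) ((TensorProduct.mk R L (M ⊗[R] P) 1) x) from LinearMap.congr_fun this _]
      simp [hx]
    haveI : IsLocalizedModule p.primeCompl (TensorProduct.mk R L (M ⊗[R] P) 1) :=
      (isLocalizedModule_iff_isBaseChange p.primeCompl L _).mpr (TensorProduct.isBaseChange R (M ⊗[R] P) L)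
    obtain ⟨c, hc⟩ := (IsLocalizedModule.eq_zero_iff p.primeCompl (TensorProduct.mk R L (M ⊗[R] P) 1)).mp h0
    exact c.2 (hle ((hI c).mpr hc))
  have hfin := (minimalPrimes.finite_of_isNoetherianRing R)
  have hnot : ¬ ((I : Set R) ⊆ ⋃ p ∈ (hfin.toFinset : Set (Ideal R)), (p : Set R)) := by
    rw [Ideal.subset_union_prime ⊥ ⊥ (fun p hp _ _ => Ideal.minimalPrimes_isPrime (hfin.mem_toFinset.mp hp))]
    rintro ⟨p, hp, hle⟩
    exact key p (hfin.mem_toFinset.mp hp) hle
  obtain ⟨s, hsI, hs⟩ := Set.not_subset.mp hnot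
  refine ⟨s, ?_, (hI s).mp hsI⟩
  rw [mem_nonZeroDivisors_iff_right]
  intro r hr
  have : r ∈ nilradical R := by
    rw [nilradical, ← Ideal.sInf_minimalPrimes]
    refine Ideal.mem_sInf.mpr fun {p} hp => ?_
    exact ((Ideal.minimalPrimes_isPrime hp).mem_or_mem (hr ▸ p.zero_mem)).resolve_right fun hsp =>
      hs (Set.mem_biUnion (hfin.mem_toFinset.mpr hp) hsp)
  rwa [nilradical_eq_zero] at this

end Groth.Agent.H06FlatVal
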